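import Cfsg.Agent.H351.KKL.E7Main
import Cfsg.Agent.H425.KKL.Seven
import Cfsg.Agent.H40.KKL.XOne

/-!
# S4546, E7 (helper351): assembly of `E_E7` from X2a (helper392) and part 1 (helper553)
-/

set_option autoImplicit false
set_option linter.unusedSectionVars false
set_option maxHeartbeats 400000

namespace Cfsg.Agent.H351.KKL

open CoxeterSystem Cfsg.Agent.ChevalleyStructure.CoxeterGeom Cfsg.Agent.Tits.Roots Cfsg.Agent.Tits.Core
  Cfsg.Agent.Tits.RootComb Cfsg.Agent.Nodes.Reps Cfsg.Agent.Nodes.BNOf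
  Cfsg.Agent.Nodes.RGDLib Cfsg.Agent.Nodes.Bruhat Cfsg.Agent.Nodes.Coroot Cfsg.Agent.KFacts.RgdSL
open Cfsg Cfsg.Lie Cfsg.Agent.ChevalleyStructure Cfsg.Agent.ChevalleyStructure.CoxeterGeomTypes
  Cfsg.Agent.ChevalleyStructure.Elts Cfsg.Agent.ChevalleyStructure.RootVec Cfsg.Agent.Nodes.RGDChev
open Cfsg.Agent.KFacts.RgdChevCoord (TT XX nc coords)
open Cfsg.Agent.H974.Exc (sl_E7 cf isRoot_of cpr_of)
open Cfsg.Agent.H557.LrTor (AA)
open Cfsg.Agent.H557.LrIso (AA_conj)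
open Cfsg.Agent.H557.LrRho (actW rep_word)
open Cfsg.Agent.H557.LrChev (range_phi)
open Cfsg.Agent.GenExc.Chev (zS)
open Cfsg.Agent.OddHalf.LongSL.Chev (phi)
open Cfsg.Agent.Nodes.RGDFoldSL (wS hS coe_wS coe_hS psi psi_up psi_lo psi_hS psi_mem)
open Cfsg.Agent.H808.RV
open Cfsg.Agent.H613.KKL
open Cfsg.Agent.UGT.U2.FOne (isType_E7)

set_option backward.isDefEq.respectTransparency false

set_option maxRecDepth 20000

/-- from the first simple root to the highest root -/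
theorem tab_w0 : actW AE [0, 2, 3, 4, 5, 6, 1, 3, 4, 5, 2, 3, 4, 1, 3, 2] (sr 0) = c0 := by
  decide +kernel

theorem two_ne {F : Type} [Field F] {p : ℕ} [Fact p.Prime] [CharP F p] (hp2 : p ≠ 2) : (2 : F) ≠ 0 := by
  intro h
  have h1 : ((2 : ℕ) : F) = 0 := by exact_mod_cast h
  rw [CharP.cast_eq_zero_iff F p] at h1
  exact hp2 ((Nat.prime_dvd_prime_iff_eq (Fact.out : p.Prime) Nat.prime_two).1 h1)

/-- the statement `x2a_E7` of helper392 -/
def X2aE7 (F : Type) [Field F] : Prop :=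
  ∃ J : GE F → Subgroup (GE F), J (zS isType_E7 F [0]) = (phi isType_E7 F 0).range ∧
    (∀ t, IsConj (zS isType_E7 F [0]) t → CI t (J t)) ∧ ∀ y t g : GE F, y * g * y⁻¹ ∈ J (y * t * y⁻¹) ↔ g ∈ J t

/-- the statement `seven_classical` of helper553 -/
def SevenE7 (F : Type) [Field F] : Prop :=
  ∀ {D : Subgroup (GE F)}, E8 D → ∀ {y : GE F}, Seven D y → ∀ d ∈ D, d ≠ 1 → IsConj (zS isType_E7 F [0]) d

/-- **`E_E7`** from X2a and part 1 -/
theorem E_E7_of {F : Type} [Field F] [Finite F] {p : ℕ} [Fact p.Prime] [CharP F p] (hp2 : p ≠ 2) (hX : X2aE7 F)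
    (hS : SevenE7 F) (D : Subgroup (GE F)) (x : GE F) (θ : IrrCharacter ↥(Subgroup.centralizer (D : Set (GE F)))) :
    ¬ CfgB D x θ := by
  intro hc
  have := Fintype.ofFinite F
  have h2 : (2 : F) ≠ 0 := two_ne hp2
  obtain ⟨J, hJ1, hJ2, hJ3⟩ := hX
  obtain ⟨y, hy⟩ := hc.seven
  have hcl := hS hc.e8 hy
  obtain ⟨-, hcm, -⟩ := H40.KKL.X1 hc.toCfg0 J (fun t ht ht1 => hJ2 t (hcl t ht ht1)) (fun y t _ _ g => hJ3 y t g)
    (k := F) h2 (V := F) (1 : GE F →* Module.End F F)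
  -- the root `c0`
  obtain ⟨cs, hcs⟩ : ∃ cs, cs = (CoxeterMatrix.E₇).toCoxeterSystem := ⟨_, rfl⟩
  have hW : Finite (CoxeterMatrix.E₇).Group := Cfsg.Agent.Nodes.RGDChev.finite_W isType_E7 cs
  have R := rgd (K := F) isType_E7 cs p
  obtain ⟨z, hz⟩ := exists_rp cs R.nsys (cs.wordProd [0, 2, 3, 4, 5, 6, 1, 3, 4, 5, 2, 3, 4, 1, 3, 2])
  have a0 : cj z (AA (XX chevE7 7 F) (sr 0)) = AA (XX chevE7 7 F) c0 := by
    rw [cj_AA R (isRoot_sr cs _ 0) hz, rep_word, tab_w0]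
  have mem0 : (0 : ℕ) ∈ FE7 := by decide
  have J0 : AA (XX chevE7 7 F) c0 = JJ isType_E7.inList F 0 := by
    rw [← JJ_eq isType_E7 (lt_E7 0 mem0), tab_vec.1, AA_neg]
  have hphi : (phi isType_E7 F 0).range = AA (XX chevE7 7 F) (sr 0) := range_phi isType_E7 (K := F) 0
  obtain ⟨s, hs⟩ : ∃ s, s = zS isType_E7 F [0] := ⟨_, rfl⟩
  have hs0 : s = phi isType_E7 F 0 (-1) := by rw [hs]; exact mul_one _
  rw [← hs] at hJ1
  have hmul : (-1 : Matrix.SpecialLinearGroup (Fin 2) F) * -1 = 1 := by simp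
  have hzs : z * s * z⁻¹ = tt isType_E7.inList F 0 := by
    refine inv_unique isType_E7.inList h2 (lt_E7 0 mem0) (hG_ne_one h2 mem0) ?_ ?_ ?_
    · rw [← J0, ← a0, conj_mem_cj, ← hphi, hs0]
      exact ⟨-1, rfl⟩
    · have e : z * s * z⁻¹ * (z * s * z⁻¹) = z * (s * s) * z⁻¹ := by group
      rw [e, hs0, ← map_mul, hmul, map_one, mul_one, mul_inv_cancel]
    · intro h5
      have e : s = z⁻¹ * (z * s * z⁻¹) * z := by group
      have hs1 : s = 1 := by rw [e, h5]; group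
      -- all nontrivial elements of `D` would be trivial
      obtain ⟨d, hd, hd1⟩ := exists_not_mem D {1} (by rw [hc.e8.card, Finset.card_singleton]; norm_num)
      rw [Finset.mem_singleton] at hd1
      have h6 := hcl d hd hd1
      rw [← hs, hs1] at h6
      exact hd1 (isConj_one_right.1 h6)
  have hJt : J (tt isType_E7.inList F 0) = JJ isType_E7.inList F 0 := by
    rw [← hzs, ← J0, ← a0, ← hphi, ← hJ1]
    ext x
    rw [mem_cj, ← hJ3 z s (z⁻¹ * x * z)]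
    have e : z * (z⁻¹ * x * z) * z⁻¹ = x := by group
    rw [e]
  obtain ⟨g, hg⟩ := toral_E7 (F := F) hp2 hc.e8.card hc.e8.inv (fun t ht ht1 => by
    obtain ⟨c, hc⟩ := isConj_iff.1 (hcl t ht ht1)
    refine ⟨c * z⁻¹, ?_⟩
    rw [← hzs, ← hc, ← hs]
    group) J hJt hJ3 hcm
  refine Cfsg.Agent.H425.KKL.seven_no h2 ⟨g, fun r hr => ⟨_, hg r hr, ?_⟩⟩ hc
  have e : g * (g⁻¹ * tt isType_E7.inList F r * g) * g⁻¹ = tt isType_E7.inList F r := by group
  rw [e]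
  rfl

end Cfsg.Agent.H351.KKL
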