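import Cfsg.Agent.H351.KKL.E7Fin0
import Cfsg.Agent.H392.KKL.X2a

/-!
# S4546, E7 (helper351): **`E_E7`**
-/

set_option autoImplicit false

namespace Cfsg.Agent.H351.KKL

open Cfsg Cfsg.Lie Cfsg.Agent.H613.KKL

/-- **`E_E7`** -/
theorem E_E7 {F : Type} [Field F] [Fintype F] {p : ℕ} [Fact p.Prime] [CharP F p] (hp : p ≠ 2)
    (D : Subgroup ↥(Lie.chevE7.group F)) (x : ↥(Lie.chevE7.group F))
    (θ : IrrCharacter ↥(Subgroup.centralizer (D : Set ↥(Lie.chevE7.group F)))) : ¬ CfgB D x θ :=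
  E_E7_of' hp (H392.KKL.x2a_E7 (two_ne (p := p) hp)) D x θ

end Cfsg.Agent.H351.KKL
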