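import Cfsg.Agent.H351.KKL.E7Asm0
import Cfsg.Agent.H553.KKL.E7One

/-!
# S4546, E7 (helper351): `E_E7` from X2a
-/

set_option autoImplicit false

namespace Cfsg.Agent.H351.KKL

open Cfsg Cfsg.Lie Cfsg.Agent.H613.KKL

theorem odd_card_of {F : Type} [Field F] [Fintype F] {p : ℕ} [Fact p.Prime] [CharP F p] (hp2 : p ≠ 2) :
    Odd (Fintype.card F) := by
  obtain ⟨n, -, hn⟩ := FiniteField.card F p
  rw [hn]
  exact ((Fact.out : p.Prime).odd_of_ne_two hp2).pow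

theorem sevenE7 {F : Type} [Field F] [Fintype F] {p : ℕ} [Fact p.Prime] [CharP F p] (hp2 : p ≠ 2) : SevenE7 F :=
  fun h _ hy d hd hd1 => H553.KKL.seven_classical (odd_card_of (p := p) hp2) h hy d hd hd1

/-- `E_E7` from X2a -/
theorem E_E7_of' {F : Type} [Field F] [Fintype F] {p : ℕ} [Fact p.Prime] [CharP F p] (hp2 : p ≠ 2) (hX : X2aE7 F)
    (D : Subgroup ↥(Lie.chevE7.group F)) (x : ↥(Lie.chevE7.group F))
    (θ : IrrCharacter ↥(Subgroup.centralizer (D : Set ↥(Lie.chevE7.group F)))) : ¬ CfgB D x θ :=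
  E_E7_of hp2 hX (sevenE7 (p := p) hp2) D x θ

end Cfsg.Agent.H351.KKL
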