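import Cfsg.Agent.H351.KKL.E7Tor
import Cfsg.Agent.H557.LrE7
import Cfsg.Agent.H808.RV.FMain
import Cfsg.Agent.H392.KKL.Hom

/-!
# S4546, E7 part 2 (helper351): `D` is toral in `E₇(q)`, `q` odd

* `JJ`, `tt` : the root `SL₂` and its involution in `D.group K`;
* `toral_E7`.
-/

set_option autoImplicit false
set_option linter.unusedSectionVars false
set_option maxHeartbeats 400000

namespace Cfsg.Agent.H351.KKL

open CoxeterSystem Cfsg.Agent.ChevalleyStructure.CoxeterGeom Cfsg.Agent.Tits.Roots Cfsg.Agent.Tits.Core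
  Cfsg.Agent.Tits.RootComb Cfsg.Agent.Nodes.Reps Cfsg.Agent.Nodes.BNOf
  Cfsg.Agent.Nodes.RGDLib Cfsg.Agent.Nodes.Bruhat Cfsg.Agent.Nodes.Coroot Cfsg.Agent.KFacts.RgdSL
open Cfsg Cfsg.Lie Cfsg.Agent.ChevalleyStructure Cfsg.Agent.ChevalleyStructure.CoxeterGeomTypes
  Cfsg.Agent.ChevalleyStructure.Elts Cfsg.Agent.ChevalleyStructure.RootVec Cfsg.Agent.Nodes.RGDChev
open Cfsg.Agent.KFacts.RgdChevCoord (TT XX nc coords)
open Cfsg.Agent.H974.Exc (sl_E7 cf isRoot_of cpr_of)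
open Cfsg.Agent.H557.LrTor (AA)
open Cfsg.Agent.H557.LrIso (AA_conj)
open Cfsg.Agent.H557.LrRho (actW rep_word)
open Cfsg.Agent.Nodes.RGDFoldSL (wS hS coe_wS coe_hS psi psi_up psi_lo psi_hS psi_mem)
open Cfsg.Agent.H808.RV
open Cfsg.Agent.UGT.U2.FOne (isType_E7)

section JJ

variable {D : ChevalleyDatum} {K : Type} [Field K]

/-- the root `SL₂` -/
noncomputable def JJ (hD : InList D) (K : Type) [Field K] (r : ℕ) : Subgroup ↥(D.group K) :=
  (psi hD K r).range.subgroupOf (D.group K)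

/-- its involution -/
noncomputable def tt (hD : InList D) (K : Type) [Field K] (r : ℕ) : ↥(D.group K) :=
  ⟨hG hD r (-1), hG_mem_group hD r (-1)⟩

theorem range_eq (hD : InList D) {r : ℕ} (hr : r < D.nroots) :
    (psi hD K r).range = D.rootSubgroup K r ⊔ D.rootSubgroup K (D.neg r) := by
  apply le_antisymm
  · rintro _ ⟨A, rfl⟩
    exact psi_mem hD hr A
  · refine sup_le ?_ ?_
    · intro x hx
      obtain ⟨t, rfl⟩ := (mem_rootSubgroup_iff hD r x).1 hx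
      exact xG_mem_range hD hr t
    · intro x hx
      obtain ⟨t, rfl⟩ := (mem_rootSubgroup_iff hD _ x).1 hx
      exact xG_neg_mem_range hD hr t

theorem JJ_eq {l : ℕ} {M : CoxeterMatrix (Fin l)} (hp : IsType D l M) {r : ℕ} (hr : r < D.nroots) :
    AA (XX D l K) (vec D l r) = JJ hp.inList K r := by
  have hneg := NPerm.neg_lt hp.inList hr
  have h1 : ∀ s, D.rootSubgroup K s ≤ D.group K := by
    intro s x hx
    obtain ⟨t, rfl⟩ := (mem_rootSubgroup_iff hp.inList s x).1 hx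
    exact xG_mem_group hp.inList s t
  unfold AA JJ
  rw [range_eq hp.inList hr, Subgroup.subgroupOf_sup (h1 _) (h1 _), ← vec_neg hp hr]
  show (XV D l K (vec D l r)).subgroupOf _ ⊔ (XV D l K (vec D l (D.neg r))).subgroupOf _ = _
  rw [XV_vec hp K hr, XV_vec hp K hneg]

theorem psi_neg_one (hD : InList D) (h2 : (2 : K) ≠ 0) {r : ℕ} (hr : r < D.nroots) :
    psi hD K r (-1) = hG hD r (-1) := by
  have h1 : (-1 : Matrix.SpecialLinearGroup (Fin 2) K) = hS (-1) := by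
    refine eq_hS h2 (by simp) ?_
    intro h
    have h3 := congrArg (fun X : Matrix.SpecialLinearGroup (Fin 2) K => X.1 0 0) h
    simp only [Matrix.SpecialLinearGroup.coe_neg, Matrix.SpecialLinearGroup.coe_one, Matrix.neg_apply,
      Matrix.one_apply_eq] at h3
    apply h2
    linear_combination -h3
  rw [h1, psi_hS hD hr]

theorem tt_mul_self (hD : InList D) {r : ℕ} (hr : r < D.nroots) : tt hD K r * tt hD K r = 1 := by
  apply Subtype.ext
  show hG hD r (-1 : K) * hG hD r (-1) = 1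
  rw [← psi_hS hD hr, ← map_mul, hS_sq, map_one]

theorem tt_mem (hD : InList D) {r : ℕ} (hr : r < D.nroots) : tt hD K r ∈ JJ hD K r := by
  show hG hD r (-1 : K) ∈ (psi hD K r).range
  exact ⟨hS (-1), psi_hS hD hr (-1)⟩

/-- the unique involution -/
theorem inv_unique [Finite K] (hD : InList D) (h2 : (2 : K) ≠ 0) {r : ℕ} (hr : r < D.nroots)
    (hne : hG hD r (-1 : K) ≠ 1) {x : ↥(D.group K)} (hx : x ∈ JJ hD K r) (hxx : x * x = 1) (h1 : x ≠ 1) :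
    x = tt hD K r := by
  have := Fintype.ofFinite K
  obtain ⟨A, hA⟩ := hx
  have hne' : psi hD K r (-1) ≠ 1 := by rwa [psi_neg_one hD h2 hr]
  have hinj : Function.Injective (psi hD K r) := H392.KKL.inj_of_neg h2 hne'
  have hAA : A * A = 1 := by
    apply hinj
    rw [map_mul, map_one, hA]
    exact congrArg Subtype.val hxx
  have hA1 : A ≠ 1 := by
    rintro rfl
    apply h1
    apply Subtype.ext
    rw [map_one] at hA
    exact hA.symm
  apply Subtype.ext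
  show (x : GL D.Idx K) = hG hD r (-1)
  rw [← psi_hS hD hr, ← eq_hS h2 hAA hA1]
  exact hA.symm

theorem hab_of {l : ℕ} {M : CoxeterMatrix (Fin l)} (hp : IsType D l M) {W : Type*} [Group W] (cs : CoxeterSystem M W)
    (x : Fin l → ℤ) (hx : IsRoot cs hp.isCartan x) : Cm (XX D l K x) (XX D l K x) := by
  obtain ⟨r, hr, rfl⟩ := (isRoot_iff hp cs x).1 hx
  refine cm_iff.2 fun u hu v hv => Subtype.ext ?_
  have hu' : (u : GL D.Idx K) ∈ XV D l K (vec D l r) := hu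
  have hv' : (v : GL D.Idx K) ∈ XV D l K (vec D l r) := hv
  rw [XV_vec hp K hr, mem_rootSubgroup_iff hp.inList] at hu' hv'
  obtain ⟨a, ha⟩ := hu'
  obtain ⟨b, hb⟩ := hv'
  show (u : GL D.Idx K) * v = v * u
  rw [ha, hb, xG_add, xG_add, add_comm]

end JJ

section Cl

variable {I W : Type*} [Fintype I] [DecidableEq I] [Group W] [Finite W] {M : CoxeterMatrix I}
  {cs : CoxeterSystem M W} {A : I → I → ℤ} {h : IsCartan M A}

/-- closed symmetric sets of roots -/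
structure Cl (cs : CoxeterSystem M W) (h : IsCartan M A) (Ψ : Set (I → ℤ)) : Prop where
  root : ∀ x ∈ Ψ, IsRoot cs h x
  neg : ∀ x ∈ Ψ, -x ∈ Ψ
  cl : ∀ x ∈ Ψ, ∀ y ∈ Ψ, ∀ z, Btwn cs h x y z → z ∈ Ψ

theorem cl_all : Cl cs h {x | IsRoot cs h x} := ⟨fun _ h => h, fun _ h => h.neg, fun _ _ _ _ _ hz => hz.1⟩

theorem Cl.qz {Ψ : Set (I → ℤ)} (H : Cl cs h Ψ) {c : I → ℤ} (hc : IsRoot cs h c) : Cl cs h (QZ cs h Ψ c) where
  root x hx := H.root x hx.1
  neg x hx := ⟨H.neg x hx.1, by rw [cpr_neg_left _ hc, hx.2, neg_zero]⟩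
  cl x hx y hy z hz := by
    refine ⟨H.cl x hx.1 y hy.1 z hz, ?_⟩
    obtain ⟨m, a, b, hm, ha, hb, e⟩ := btwn_cpr hc hz
    rw [hx.2, hy.2, mul_zero, mul_zero, add_zero] at e
    exact (mul_eq_zero.1 e).resolve_left hm.ne'

theorem Cl.lev {Ψ : Set (I → ℤ)} (H : Cl cs h Ψ) {c : I → ℤ} (hc : c ∈ Ψ) (hd : ∀ x ∈ Ψ, 0 ≤ x → 0 ≤ cpr cs h x c) :
    Lev cs h Ψ c := ⟨H.root, H.neg, H.cl, hc, hd⟩

theorem Cl.refl {Ψ : Set (I → ℤ)} (H : Cl cs h Ψ) {x c : I → ℤ} (hx : x ∈ Ψ) (hcm : c ∈ Ψ) :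
    x - cpr cs h x c • c ∈ Ψ := by
  have hr := isRoot_refl cs h (H.root x hx) (H.root c hcm)
  rcases lt_trichotomy (cpr cs h x c) 0 with h1 | h1 | h1
  · refine H.cl x hx c hcm _ ⟨hr, 1, 1, -cpr cs h x c, one_pos, one_pos, by omega, ?_⟩
    rw [one_smul, one_smul, neg_smul, sub_eq_add_neg]
  · rwa [h1, zero_smul, sub_zero]
  · refine H.cl x hx (-c) (H.neg c hcm) _ ⟨hr, 1, 1, cpr cs h x c, one_pos, one_pos, h1, ?_⟩
    rw [one_smul, one_smul, smul_neg, sub_eq_add_neg]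

theorem Cl.simple {Ψ : Set (I → ℤ)} (H : Cl cs h Ψ) : ∀ x ∈ Ψ, ∀ i, sr i ∈ Ψ → rep cs h (cs.simple i) x ∈ Ψ := by
  intro x hx i hi
  rw [rep_simple_eq, ← cpr_sr cs h]
  exact H.refl hx hi

end Cl

section E7

/-- the Cartan matrix -/
abbrev AE : Fin 7 → Fin 7 → ℤ := cartanOf chevE7 7

/-- the highest roots of `E₇`, `D₆`, `D₄` -/
def c0 : Fin 7 → ℤ := ![2, 2, 3, 4, 3, 2, 1]
@[inherit_doc c0] def c1 : Fin 7 → ℤ := ![0, 1, 1, 2, 2, 2, 1]
@[inherit_doc c0] def c2 : Fin 7 → ℤ := ![0, 1, 1, 2, 1, 0, 0]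
/-- the root of `A₁` -/
def ce : Fin 7 → ℤ := ![0, 0, 0, 0, 0, 0, 1]

set_option backward.isDefEq.respectTransparency false

set_option maxRecDepth 20000

theorem tab_root : (∃ k ∈ List.range chevE7.nroots, vec chevE7 7 k = c0) ∧
    (∃ k ∈ List.range chevE7.nroots, vec chevE7 7 k = c1) ∧ (∃ k ∈ List.range chevE7.nroots, vec chevE7 7 k = c2) ∧
    (∃ k ∈ List.range chevE7.nroots, vec chevE7 7 k = ce) := by
  decide +kernel

theorem tab_vec : vec chevE7 7 0 = -c0 ∧ vec chevE7 7 33 = -c1 ∧ vec chevE7 7 38 = -c2 ∧ vec chevE7 7 62 = -ce := by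
  decide +kernel

theorem tab_cf : cf AE c1 c0 = 0 ∧ cf AE ce c0 = 0 ∧ cf AE ce c1 = 0 ∧ cf AE c2 c0 = 0 ∧ cf AE c2 c1 = 0 ∧
    cf AE c2 ce = 0 := by
  decide +kernel

theorem tab_dom0 : ∀ r ∈ List.range chevE7.nroots, (∀ k : Fin 7, 0 ≤ vec chevE7 7 r k) →
    0 ≤ cf AE (vec chevE7 7 r) c0 := by
  decide +kernel

theorem tab_dom1 : ∀ r ∈ List.range chevE7.nroots, (∀ k : Fin 7, 0 ≤ vec chevE7 7 r k) →
    cf AE (vec chevE7 7 r) c0 = 0 → 0 ≤ cf AE (vec chevE7 7 r) c1 := by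
  decide +kernel

theorem tab_dom2 : ∀ r ∈ List.range chevE7.nroots, (∀ k : Fin 7, 0 ≤ vec chevE7 7 r k) →
    cf AE (vec chevE7 7 r) c0 = 0 → cf AE (vec chevE7 7 r) c1 = 0 → 0 ≤ cf AE (vec chevE7 7 r) ce := by
  decide +kernel

theorem tab_dom3 : ∀ r ∈ List.range chevE7.nroots, (∀ k : Fin 7, 0 ≤ vec chevE7 7 r k) →
    cf AE (vec chevE7 7 r) c0 = 0 → cf AE (vec chevE7 7 r) c1 = 0 → cf AE (vec chevE7 7 r) ce = 0 →
    0 ≤ cf AE (vec chevE7 7 r) c2 := by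
  decide +kernel

theorem tab_up1 : ∀ r ∈ List.range chevE7.nroots, cf AE (vec chevE7 7 r) c0 = 0 → vec chevE7 7 r ≠ c1 →
    ∃ i : Fin 7, cf AE (sr i) c0 = 0 ∧ pairing AE i (vec chevE7 7 r) < 0 := by
  decide +kernel

theorem tab_up3 : ∀ r ∈ List.range chevE7.nroots, cf AE (vec chevE7 7 r) c0 = 0 → cf AE (vec chevE7 7 r) c1 = 0 →
    cf AE (vec chevE7 7 r) ce = 0 → vec chevE7 7 r ≠ c2 →
    ∃ i : Fin 7, (cf AE (sr i) c0 = 0 ∧ cf AE (sr i) c1 = 0 ∧ cf AE (sr i) ce = 0) ∧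
      pairing AE i (vec chevE7 7 r) < 0 := by
  decide +kernel

theorem tab_ht : ∀ r ∈ List.range chevE7.nroots, ht (vec chevE7 7 r) ≤ 17 := by
  decide +kernel

theorem tab_word : actW AE [0, 2, 3, 4, 1, 3, 2, 0] c0 = c1 ∧ actW AE [5, 6, 4, 5, 0, 2, 3, 4, 1, 3, 2, 0] c0 = c2 ∧
    actW AE [5, 4, 3, 2, 1, 3, 4, 5, 0, 2, 3, 4, 1, 3, 2, 0] c0 = ce := by
  decide +kernel

/-- the relations of the frame -/
theorem tab_rel : ∀ r ∈ FE7, ∃ I ∈ [0, 33, 38].sublists, ∀ j : Fin 7, sumP chevE7 (r :: I) (chevE7.simple j) % 2 = 0 := by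
  decide +kernel

/-- the group -/
abbrev GE (F : Type) [Field F] : Type := ↥(ChevalleyDatum.group chevE7 F)

variable {F : Type} [Field F] [Finite F]

theorem hG_ne_one (h2 : (2 : F) ≠ 0) {r : ℕ} (hr : r ∈ FE7) : hG isType_E7.inList r (-1 : F) ≠ 1 := by
  obtain ⟨j, hj⟩ := tabZ_spec isType_E7 tabZ_E7 hr
  have h1 := zP_ne_one (K := F) isType_E7 h2 (I := [r]) (fun a ha => by
    rw [List.mem_singleton] at ha; subst ha; exact lt_E7 _ hr) (j := j) (by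
    unfold sumP
    simpa using hj)
  intro h3
  apply h1
  unfold zP
  simp [h3]

/-- `t₀` and `J₀` determine each other -/
theorem norm_iff (h2 : (2 : F) ≠ 0) {r : ℕ} (hr : r ∈ FE7) (m : GE F) :
    m * tt isType_E7.inList F r = tt isType_E7.inList F r * m ↔
      cj m (JJ isType_E7.inList F r) = JJ isType_E7.inList F r := by
  have hlt := lt_E7 r hr
  constructor
  · intro h1
    have key : ∀ m : GE F, m * tt isType_E7.inList F r = tt isType_E7.inList F r * m →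
        cj m (JJ isType_E7.inList F r) ≤ JJ isType_E7.inList F r := by
      rintro m hm _ ⟨x, hx, rfl⟩
      show (m : GL chevE7.Idx F) * x * (m : GL chevE7.Idx F)⁻¹ ∈ (psi isType_E7.inList F r).range
      exact cent_norm isType_E7.inList h2 hlt (tabA_E7 r hr) (tabB_E7 r hr) m.2 (congrArg Subtype.val hm) _ hx
    have h3 : m⁻¹ * tt isType_E7.inList F r = tt isType_E7.inList F r * m⁻¹ := by
      rw [inv_mul_eq_iff_eq_mul, ← mul_assoc, h1, mul_inv_cancel_right]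
    apply le_antisymm (key m h1)
    have h4 := cj_mono m (key m⁻¹ h3)
    rwa [cj_cj_inv] at h4
  · intro h1
    have h3 : m * tt isType_E7.inList F r * m⁻¹ ∈ JJ isType_E7.inList F r := by
      rw [← h1]
      exact conj_mem_cj.2 (tt_mem _ hlt)
    have hne := hG_ne_one h2 hr
    have h4 := inv_unique isType_E7.inList h2 hlt hne h3 (by
      have e : m * tt isType_E7.inList F r * m⁻¹ * (m * tt isType_E7.inList F r * m⁻¹) =
        m * (tt isType_E7.inList F r * tt isType_E7.inList F r) * m⁻¹ := by group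
      rw [e, tt_mul_self _ hlt, mul_one, mul_inv_cancel]) (by
      intro h5
      apply hne
      have h6 : tt isType_E7.inList F r = 1 := by
        have e : tt isType_E7.inList F r = m⁻¹ * (m * tt isType_E7.inList F r * m⁻¹) * m := by group
        rw [e, h5]; group
      exact congrArg Subtype.val h6)
    rw [← mul_inv_eq_iff_eq_mul]
    exact h4

/-- products of the involutions of the frame -/
theorem tt_mem_closure {r : ℕ} (hr : r ∈ FE7) {D : Subgroup (GE F)} {y : GE F}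
    (h0 : y⁻¹ * tt isType_E7.inList F 0 * y ∈ D) (h33 : y⁻¹ * tt isType_E7.inList F 33 * y ∈ D)
    (h38 : y⁻¹ * tt isType_E7.inList F 38 * y ∈ D) : y⁻¹ * tt isType_E7.inList F r * y ∈ D := by
  obtain ⟨I, hI, hrel⟩ := tab_rel r hr
  have hsub : ∀ a ∈ I, a ∈ [0, 33, 38] := fun a ha => (List.mem_sublists.1 hI).subset ha
  have hlt : ∀ a ∈ [0, 33, 38], a < chevE7.nroots := by decide +kernel
  have h1 := zP_eq_one (K := F) isType_E7 (I := r :: I) (by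
    intro a ha
    rcases List.mem_cons.1 ha with rfl | ha
    · exact lt_E7 _ hr
    · exact hlt a (hsub a ha)) hrel
  have hin : ∀ a ∈ [0, 33, 38], y⁻¹ * tt isType_E7.inList F a * y ∈ D := by
    intro a ha
    simp only [List.mem_cons, List.not_mem_nil, or_false] at ha
    rcases ha with rfl | rfl | rfl
    · exact h0
    · exact h33
    · exact h38
  have key : ∀ I : List ℕ, (∀ a ∈ I, a ∈ [0, 33, 38]) →
      ∃ x : GE F, (x : GL chevE7.Idx F) = zP isType_E7.inList F I ∧ y⁻¹ * x * y ∈ D := by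
    intro I
    induction I with
    | nil => exact fun _ => ⟨1, rfl, by rw [mul_one, inv_mul_cancel]; exact one_mem D⟩
    | cons a I ih =>
      intro h
      obtain ⟨x, hx, hxD⟩ := ih fun b hb => h b (List.mem_cons_of_mem _ hb)
      refine ⟨tt isType_E7.inList F a * x, ?_, ?_⟩
      · rw [Subgroup.coe_mul, hx]
        unfold zP
        rw [List.map_cons, List.prod_cons]
        rfl
      · have e : y⁻¹ * (tt isType_E7.inList F a * x) * y = y⁻¹ * tt isType_E7.inList F a * y * (y⁻¹ * x * y) := by group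
        rw [e]
        exact mul_mem (hin a (h a List.mem_cons_self)) hxD
  obtain ⟨x, hx, hxD⟩ := key I hsub
  have h2 : tt isType_E7.inList F r * x = 1 := by
    apply Subtype.ext
    rw [Subgroup.coe_mul, hx, Subgroup.coe_one, ← h1]
    unfold zP
    rw [List.map_cons, List.prod_cons]
    rfl
  have h3 : tt isType_E7.inList F r = x⁻¹ := eq_inv_of_mul_eq_one_left h2
  rw [h3]
  have e : y⁻¹ * x⁻¹ * y = (y⁻¹ * x * y)⁻¹ := by group
  rw [e]
  exact inv_mem hxD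

theorem cj_AA {W : Type*} [Group W] [Finite W] {cs : CoxeterSystem CoxeterMatrix.E₇ W} {p : ℕ} {T : Subgroup (GE F)}
    {n : Fin 7 → GE F} {X : (Fin 7 → ℤ) → Subgroup (GE F)} (R : RGD cs isType_E7.isCartan p T n X) {c : Fin 7 → ℤ}
    (hc : IsRoot cs isType_E7.isCartan c) {w : W} {z : GE F} (hz : Rp cs R.nsys w z) :
    cj z (AA X c) = AA X (rep cs isType_E7.isCartan w c) := (AA_conj R hz hc).symm

set_option maxHeartbeats 1000000 in
/-- **`D` is toral**: S4546, E7 part 2 -/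
theorem toral_E7 {p : ℕ} [Fact p.Prime] [CharP F p] (hp2 : p ≠ 2) {D : Subgroup (GE F)} (hcard : Nat.card D = 8)
    (hinv : ∀ d ∈ D, d * d = 1) (hcl : ∀ t ∈ D, t ≠ 1 → ∃ g : GE F, g * tt isType_E7.inList F 0 * g⁻¹ = t)
    (J : GE F → Subgroup (GE F)) (hJ₀ : J (tt isType_E7.inList F 0) = JJ isType_E7.inList F 0)
    (hJ : ∀ y t g : GE F, y * g * y⁻¹ ∈ J (y * t * y⁻¹) ↔ g ∈ J t)
    (hcm : ∀ t ∈ D, t ≠ 1 → ∀ s ∈ D, s ≠ 1 → s ≠ t → ∀ g ∈ J t, ∀ h ∈ J s, g * h = h * g) :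
    ∃ y : GE F, ∀ r ∈ FE7, y⁻¹ * tt isType_E7.inList F r * y ∈ D := by
  have := Fintype.ofFinite F
  have h2 : (2 : F) ≠ 0 := by
    intro h
    have h1 : ((2 : ℕ) : F) = 0 := by exact_mod_cast h
    rw [CharP.cast_eq_zero_iff F p] at h1
    exact hp2 ((Nat.prime_dvd_prime_iff_eq (Fact.out : p.Prime) Nat.prime_two).1 h1)
  obtain ⟨cs, hcs⟩ : ∃ cs, cs = (CoxeterMatrix.E₇).toCoxeterSystem := ⟨_, rfl⟩
  have hW : Finite (CoxeterMatrix.E₇).Group := Cfsg.Agent.Nodes.RGDChev.finite_W isType_E7 cs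
  have R := rgd (K := F) isType_E7 cs p
  have hs := sl_E7 cs
  have hG1 := G1_eq_top (K := F) isType_E7 cs
  have hG := KFacts.RgdRigid.GG_eq_top (T := TT chevE7 F) hG1
  have hab := hab_of (K := F) isType_E7 cs
  -- roots
  obtain ⟨q0, q1, q2, qe⟩ := tab_root
  have r0 : IsRoot cs isType_E7.isCartan c0 := isRoot_of isType_E7 cs q0
  have r1 : IsRoot cs isType_E7.isCartan c1 := isRoot_of isType_E7 cs q1
  have r2 : IsRoot cs isType_E7.isCartan c2 := isRoot_of isType_E7 cs q2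
  have re : IsRoot cs isType_E7.isCartan ce := isRoot_of isType_E7 cs qe
  have hcp : ∀ {x y : Fin 7 → ℤ}, IsRoot cs isType_E7.isCartan y → cpr cs isType_E7.isCartan x y = cf AE x y :=
    fun {x y} hy => cpr_of isType_E7 hs x hy rfl
  obtain ⟨f10, fe0, fe1, f20, f21, f2e⟩ := tab_cf
  -- the levels
  obtain ⟨Ψ₁, e₁⟩ : ∃ Ψ₁, Ψ₁ = QZ cs isType_E7.isCartan {x | IsRoot cs isType_E7.isCartan x} c0 := ⟨_, rfl⟩
  obtain ⟨Ψ₂, e₂⟩ : ∃ Ψ₂, Ψ₂ = QZ cs isType_E7.isCartan Ψ₁ c1 := ⟨_, rfl⟩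
  obtain ⟨Ψ₃, e₃⟩ : ∃ Ψ₃, Ψ₃ = QZ cs isType_E7.isCartan Ψ₂ ce := ⟨_, rfl⟩
  have m₁ : ∀ x, x ∈ Ψ₁ ↔ IsRoot cs isType_E7.isCartan x ∧ cf AE x c0 = 0 := fun x => by
    rw [e₁, ← hcp r0]; rfl
  have m₂ : ∀ x, x ∈ Ψ₂ ↔ x ∈ Ψ₁ ∧ cf AE x c1 = 0 := fun x => by
    rw [e₂, ← hcp r1]; rfl
  have m₃ : ∀ x, x ∈ Ψ₃ ↔ x ∈ Ψ₂ ∧ cf AE x ce = 0 := fun x => by
    rw [e₃, ← hcp re]; rfl
  have C₁ : Cl cs isType_E7.isCartan Ψ₁ := by rw [e₁]; exact cl_all.qz r0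
  have C₂ : Cl cs isType_E7.isCartan Ψ₂ := by rw [e₂]; exact C₁.qz r1
  have C₃ : Cl cs isType_E7.isCartan Ψ₃ := by rw [e₃]; exact C₂.qz re
  have hpos : ∀ {x : Fin 7 → ℤ}, 0 ≤ x → ∀ k : Fin 7, 0 ≤ x k := fun hx k => hx k
  have L₀ : Lev cs isType_E7.isCartan {x | IsRoot cs isType_E7.isCartan x} c0 := by
    refine cl_all.lev r0 fun x hx h0 => ?_
    obtain ⟨r, hr, rfl⟩ := (isRoot_iff isType_E7 cs x).1 hx
    rw [hcp r0]
    exact tab_dom0 r (List.mem_range.2 hr) (hpos h0)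
  have L₁ : Lev cs isType_E7.isCartan Ψ₁ c1 := by
    refine C₁.lev ((m₁ _).2 ⟨r1, f10⟩) fun x hx h0 => ?_
    obtain ⟨k1, k2⟩ := (m₁ _).1 hx
    obtain ⟨r, hr, rfl⟩ := (isRoot_iff isType_E7 cs x).1 k1
    rw [hcp r1]
    exact tab_dom1 r (List.mem_range.2 hr) (hpos h0) k2
  have L₂ : Lev cs isType_E7.isCartan Ψ₂ ce := by
    refine C₂.lev ((m₂ _).2 ⟨(m₁ _).2 ⟨re, fe0⟩, fe1⟩) fun x hx h0 => ?_
    obtain ⟨k3, k4⟩ := (m₂ _).1 hx
    obtain ⟨k1, k2⟩ := (m₁ _).1 k3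
    obtain ⟨r, hr, rfl⟩ := (isRoot_iff isType_E7 cs x).1 k1
    rw [hcp re]
    exact tab_dom2 r (List.mem_range.2 hr) (hpos h0) k2 k4
  have L₃ : Lev cs isType_E7.isCartan Ψ₃ c2 := by
    refine C₃.lev ((m₃ _).2 ⟨(m₂ _).2 ⟨(m₁ _).2 ⟨r2, f20⟩, f21⟩, f2e⟩) fun x hx h0 => ?_
    obtain ⟨k5, k6⟩ := (m₃ _).1 hx
    obtain ⟨k3, k4⟩ := (m₂ _).1 k5
    obtain ⟨k1, k2⟩ := (m₁ _).1 k3
    obtain ⟨r, hr, rfl⟩ := (isRoot_iff isType_E7 cs x).1 k1
    rw [hcp r2]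
    exact tab_dom3 r (List.mem_range.2 hr) (hpos h0) k2 k4 k6
  have hht : ∀ x, IsRoot cs isType_E7.isCartan x → ht x ≤ 17 := by
    intro x hx
    obtain ⟨r, hr, rfl⟩ := (isRoot_iff isType_E7 cs x).1 hx
    exact tab_ht r (List.mem_range.2 hr)
  have tr₁ := trans_up R C₁.root C₁.simple C₁.neg (c := c1) (fun b hb hne => by
    obtain ⟨k1, k2⟩ := (m₁ _).1 hb
    obtain ⟨r, hr, rfl⟩ := (isRoot_iff isType_E7 cs b).1 k1
    obtain ⟨i, hi, hlt⟩ := tab_up1 r (List.mem_range.2 hr) k2 hne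
    exact ⟨i, (m₁ _).2 ⟨isRoot_sr cs _ i, hi⟩, hlt⟩) (N := 17) (fun b hb => hht b (C₁.root b hb))
  have tr₃ := trans_up R C₃.root C₃.simple C₃.neg (c := c2) (fun b hb hne => by
    obtain ⟨k5, k6⟩ := (m₃ _).1 hb
    obtain ⟨k3, k4⟩ := (m₂ _).1 k5
    obtain ⟨k1, k2⟩ := (m₁ _).1 k3
    obtain ⟨r, hr, rfl⟩ := (isRoot_iff isType_E7 cs b).1 k1
    obtain ⟨i, ⟨hi1, hi2, hi3⟩, hlt⟩ := tab_up3 r (List.mem_range.2 hr) k2 k4 k6 hne
    exact ⟨i, (m₃ _).2 ⟨(m₂ _).2 ⟨(m₁ _).2 ⟨isRoot_sr cs _ i, hi1⟩, hi2⟩, hi3⟩, hlt⟩) (N := 17)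
    (fun b hb => hht b (C₃.root b hb))
  -- the groups
  obtain ⟨v0, v33, v38, v62⟩ := tab_vec
  have mem0 : (0 : ℕ) ∈ FE7 := by decide
  have mem33 : (33 : ℕ) ∈ FE7 := by decide
  have mem38 : (38 : ℕ) ∈ FE7 := by decide
  have mem62 : (62 : ℕ) ∈ FE7 := by decide
  have J0 : AA (XX chevE7 7 F) c0 = JJ isType_E7.inList F 0 := by
    rw [← JJ_eq isType_E7 (lt_E7 0 mem0), v0, AA_neg]
  have J33 : AA (XX chevE7 7 F) c1 = JJ isType_E7.inList F 33 := by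
    rw [← JJ_eq isType_E7 (lt_E7 33 mem33), v33, AA_neg]
  have J38 : AA (XX chevE7 7 F) c2 = JJ isType_E7.inList F 38 := by
    rw [← JJ_eq isType_E7 (lt_E7 38 mem38), v38, AA_neg]
  have J62 : AA (XX chevE7 7 F) ce = JJ isType_E7.inList F 62 := by
    rw [← JJ_eq isType_E7 (lt_E7 62 mem62), v62, AA_neg]
  obtain ⟨w1, w2, we⟩ := tab_word
  obtain ⟨z₁, hz₁⟩ := exists_rp cs R.nsys (cs.wordProd [0, 2, 3, 4, 1, 3, 2, 0])
  obtain ⟨z₂, hz₂⟩ := exists_rp cs R.nsys (cs.wordProd [5, 6, 4, 5, 0, 2, 3, 4, 1, 3, 2, 0])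
  obtain ⟨ze, hze⟩ := exists_rp cs R.nsys (cs.wordProd [5, 4, 3, 2, 1, 3, 4, 5, 0, 2, 3, 4, 1, 3, 2, 0])
  have a1 : cj z₁ (AA (XX chevE7 7 F) c0) = AA (XX chevE7 7 F) c1 := by rw [cj_AA R r0 hz₁, rep_word, w1]
  have a2 : cj z₂ (AA (XX chevE7 7 F) c0) = AA (XX chevE7 7 F) c2 := by rw [cj_AA R r0 hz₂, rep_word, w2]
  have ae : cj ze (AA (XX chevE7 7 F) c0) = AA (XX chevE7 7 F) ce := by rw [cj_AA R r0 hze, rep_word, we]
  obtain ⟨t₀, ht₀⟩ : ∃ t₀, t₀ = tt isType_E7.inList F 0 := ⟨_, rfl⟩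
  rw [← ht₀] at hJ₀
  simp only [← ht₀] at hcl
  have hmem : t₀ ∈ AA (XX chevE7 7 F) c0 := by
    rw [J0, ht₀]; exact tt_mem _ (lt_E7 0 mem0)
  have ht₀1 : t₀ ≠ 1 := by
    intro h
    apply hG_ne_one h2 mem0
    rw [ht₀] at h
    exact congrArg Subtype.val h
  have ht₀2 : t₀ * t₀ = 1 := by rw [ht₀]; exact tt_mul_self _ (lt_E7 0 mem0)
  have hun : ∀ {r : ℕ}, r ∈ FE7 → ∀ {z : GE F}, z * t₀ * z⁻¹ ∈ JJ isType_E7.inList F r →
      z * t₀ * z⁻¹ = tt isType_E7.inList F r := by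
    intro r hr z hz
    refine inv_unique isType_E7.inList h2 (lt_E7 r hr) (hG_ne_one h2 hr) hz ?_ ?_
    · have e : z * t₀ * z⁻¹ * (z * t₀ * z⁻¹) = z * (t₀ * t₀) * z⁻¹ := by group
      rw [e, ht₀2, mul_one, mul_inv_cancel]
    · intro h5
      apply ht₀1
      have e : t₀ = z⁻¹ * (z * t₀ * z⁻¹) * z := by group
      rw [e, h5]; group
  have b1 : z₁ * t₀ * z₁⁻¹ = tt isType_E7.inList F 33 := hun mem33 (by rw [← J33, ← a1]; exact conj_mem_cj.2 hmem)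
  have b2 : z₂ * t₀ * z₂⁻¹ = tt isType_E7.inList F 38 := hun mem38 (by rw [← J38, ← a2]; exact conj_mem_cj.2 hmem)
  have be : ze * t₀ * ze⁻¹ = tt isType_E7.inList F 62 := hun mem62 (by rw [← J62, ← ae]; exact conj_mem_cj.2 hmem)
  have hrel : t₀ * (z₁ * t₀ * z₁⁻¹) = ze * t₀ * ze⁻¹ := by
    rw [b1, be]
    have h1 := zP_eq_one (K := F) isType_E7 (I := [0, 33, 62]) (by
      intro a ha
      simp only [List.mem_cons, List.not_mem_nil, or_false] at ha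
      rcases ha with rfl | rfl | rfl
      · exact lt_E7 _ mem0
      · exact lt_E7 _ mem33
      · exact lt_E7 _ mem62) (by decide +kernel)
    have h3 : t₀ * tt isType_E7.inList F 33 * tt isType_E7.inList F 62 = 1 := by
      apply Subtype.ext
      rw [Subgroup.coe_one, ← h1, ht₀]
      unfold zP
      simp only [List.map_cons, List.map_nil, List.prod_cons, List.prod_nil, mul_one, Subgroup.coe_mul]
      rw [mul_assoc]
      rfl
    have h4 : tt isType_E7.inList F 62 * tt isType_E7.inList F 62 = 1 := tt_mul_self _ (lt_E7 _ mem62)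
    exact mul_right_cancel (h3.trans h4.symm)
  have hnorm : ∀ m : GE F, m * t₀ = t₀ * m ↔ cj m (AA (XX chevE7 7 F) c0) = AA (XX chevE7 7 F) c0 := by
    intro m
    rw [J0, ht₀]
    exact norm_iff h2 mem0 m
  have hJg : ∀ g : GE F, J (g * t₀ * g⁻¹) = cj g (AA (XX chevE7 7 F) c0) := by
    intro g
    ext x
    rw [mem_cj, J0, ← hJ₀, ← hJ g t₀ (g⁻¹ * x * g)]
    have e : g * (g⁻¹ * x * g) * g⁻¹ = x := by group
    rw [e]
  obtain ⟨y, y0, y33, y38⟩ := toral_abs R hs hab hG L₀ e₁ L₁ e₂ L₂ e₃ L₃ tr₁ tr₃ hmem hnorm a1 ae a2 hrel hcard hinv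
    hcl (fun g g' hg hg' hne => by
      rw [← hJg, ← hJg]
      refine cm_iff.2 fun a ha b hb => ?_
      have hne1 : ∀ g : GE F, g * t₀ * g⁻¹ ≠ 1 := by
        intro g h5
        apply ht₀1
        have e : t₀ = g⁻¹ * (g * t₀ * g⁻¹) * g := by group
        rw [e, h5]; group
      exact hcm _ hg (hne1 g) _ hg' (hne1 g') (Ne.symm hne) a ha b hb)
  rw [b1] at y33
  rw [b2] at y38
  rw [ht₀] at y0
  exact ⟨y, fun r hr => tt_mem_closure hr y0 y33 y38⟩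

end E7

end Cfsg.Agent.H351.KKL
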