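import Cfsg.Agent.H351.KKL.E7Step

/-!
# S4546, E7 part 2 (helper351): placing a fundamental subgroup

* `isPGroup_pair` : `⟨X c, X d⟩` is a `p`-group for `d ≠ -c`;
* `Place` : the conjugates of `X c₀` commuting with the groups `AA X c'`, `c' ∈ C`;
* `place_start`, `place_next`; `place` : a conjugate of `AA X c₀` commuting with the `AA X c'` is conjugate to `AA X c`
  by an element commuting with them.
-/

set_option autoImplicit false
set_option linter.unusedSectionVars false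

namespace Cfsg.Agent.H351.KKL

open CoxeterSystem Cfsg.Agent.ChevalleyStructure.CoxeterGeom Cfsg.Agent.Tits.Roots Cfsg.Agent.Tits.Core
  Cfsg.Agent.Tits.RootComb Cfsg.Agent.Tits.Exchange Cfsg.Agent.Nodes.Reps Cfsg.Agent.Nodes.BNOf
  Cfsg.Agent.Nodes.StabComb Cfsg.Agent.Nodes.Bruhat Cfsg.Agent.Nodes.Coroot Cfsg.Agent.Nodes.OppDec
  Cfsg.Agent.Nodes.RGDLib Cfsg.Agent.Nodes.PosPair Cfsg.Agent.Nodes.SubComb Cfsg.Agent.Nodes.Comb
  Cfsg.Agent.KFacts.RgdSL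
open Cfsg.Agent.H557.LrTor (AA)
open Cfsg.Agent.H557.LrIso (AA_conj)
open Cfsg.Agent.H974.Exc (ra_comm)

variable {I W Y : Type*} [Fintype I] [DecidableEq I] [Group W] [Group Y] {M : CoxeterMatrix I}
  {cs : CoxeterSystem M W} {A : I → I → ℤ} {h : IsCartan M A} {p : ℕ} {T : Subgroup Y} {n : I → Y}
  {X : (I → ℤ) → Subgroup Y}

section

variable [Finite W] (R : RGD cs h p T n X) (hs : SL cs h) (hab : ∀ x, IsRoot cs h x → Cm (X x) (X x))

include R hs hab in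
theorem isPGroup_of_nonneg {c d : I → ℤ} (hc : IsRoot cs h c) (hd : IsRoot cs h d) (h0 : 0 ≤ cpr cs h c d) :
    IsPGroup p ↥(X c ⊔ X d) :=
  (R.pgrp' hc).to_sup_of_normal_right' (R.pgrp' hd)
    (le_trans (cm_nonneg R hs hab hc hd h0) (Subgroup.centralizer_le_normalizer _))

include R hs hab in
/-- non-opposite root groups generate a `p`-group -/
theorem isPGroup_pair {c d : I → ℤ} (hc : IsRoot cs h c) (hd : IsRoot cs h d) (hne : d ≠ -c) :
    IsPGroup p ↥(X c ⊔ X d) := by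
  have hne' : c ≠ -d := fun e => hne (by rw [e, neg_neg])
  by_cases hcd : 0 ≤ cpr cs h c d
  · exact isPGroup_of_nonneg R hs hab hc hd hcd
  · have hcd1 : cpr cs h c d = -1 := by
      rcases hs.cases hc hd with h1 | h1 | h1
      · omega
      · exact absurd h1.1 hne'
      · omega
    have hsum := isRoot_add hc hd hcd1
    have h1 : cpr cs h c (c + d) = 1 := by
      rw [hs _ _ hc hsum, cpr_add cs h _ _ hc, cpr_self cs h hc, hs _ _ hd hc, hcd1]; norm_num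
    have h2 : cpr cs h d (c + d) = 1 := by
      rw [hs _ _ hd hsum, cpr_add cs h _ _ hd, cpr_self cs h hd, hcd1]; norm_num
    have hP : IsPGroup p ↥(X c ⊔ X (c + d)) := isPGroup_of_nonneg R hs hab hc hsum (by omega)
    have hSup : RGD.Sup X {c, c + d} = X c ⊔ X (c + d) := by
      apply le_antisymm
      · refine RGD.Sup_le fun z hz => ?_
        rcases hz with rfl | rfl
        · exact le_sup_left
        · exact le_sup_right
      · exact sup_le (RGD.le_Sup (Or.inl rfl)) (RGD.le_Sup (Or.inr rfl))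
    have hdc : d ≠ c := by
      rintro rfl
      rw [cpr_self cs h hc] at hcd1; omega
    have hN : X d ≤ Subgroup.normalizer ((X c ⊔ X (c + d) : Subgroup Y) : Set Y) := by
      rw [← hSup]
      refine R.le_normalizer hd ?_
      rintro y (rfl | rfl)
      · refine ⟨hc, Or.inr ⟨hne, fun z hz => ?_⟩⟩
        have := (hs.btwn hd hc hdc hne hz).2
        right
        rw [this, add_comm]; rfl
      · refine ⟨hsum, Or.inr ⟨?_, fun z hz => ?_⟩⟩
        · intro e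
          have h3 := congrArg (fun x => cpr cs h x (c + d)) e
          rw [h2, cpr_neg_left _ hsum, cpr_self cs h hsum] at h3
          omega
        · have hne3 : d ≠ c + d := fun e => hc.ne_zero (by simpa using e)
          exact absurd hz (hs.not_btwn hd hsum hne3 (by omega) z)
    have h3 : IsPGroup p ↥(X d ⊔ (X c ⊔ X (c + d))) := (R.pgrp' hd).to_sup_of_normal_right' hP hN
    exact h3.to_le (sup_le (le_trans le_sup_left le_sup_right) le_sup_left)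

include R in
theorem not_isPGroup_AA {c : I → ℤ} (hc : IsRoot cs h c) : ¬ IsPGroup p ↥(AA X c) := by
  obtain ⟨w, i, rfl⟩ := hc
  obtain ⟨k, hk⟩ := exists_rp cs R.nsys w
  rw [AA_conj R hk (isRoot_sr cs h i)]
  intro h1
  apply R.notp i
  exact h1.of_equiv ((AA X (sr i)).equivMapOfInjective _ (MulAut.conj k).injective).symm

/-- the conjugates of `X c₀` commuting with the groups `AA X c'`, `c' ∈ C` -/
def Place (X : (I → ℤ) → Subgroup Y) (c₀ : I → ℤ) (Ψ : Set (I → ℤ)) (C : List (I → ℤ)) : Prop :=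
  ∀ g : Y, (∀ c ∈ C, Cm (cj g (X c₀)) (AA X c)) → ∃ b ∈ Ψ, ∃ l ∈ RGD.Sup X (PP Ψ), cj g (X c₀) = cj l (X b)

include R hs hab in
theorem place_start (hG : GG cs h T X = ⊤) {c₀ : I → ℤ} (hc₀ : IsRoot cs h c₀)
    (hdom : ∀ x, IsRoot cs h x → 0 ≤ x → 0 ≤ cpr cs h x c₀) : Place X c₀ {x | IsRoot cs h x} [] := by
  intro g _
  have hg : g ∈ GG cs h T X := by rw [hG]; trivial
  obtain ⟨w, b₁, hb₁, k, hk, b₂, hb₂, rfl⟩ := (mem_GG R).1 hg
  have hU : Cm (RGD.Sup X (RGD.Pos cs h)) (X c₀) := cm_Sup fun x hx => cm_nonneg R hs hab hx.1 hc₀ (hdom x hx.1 hx.2)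
  obtain ⟨t, ht, u, hu, rfl⟩ := R.mem_B.1 hb₂
  obtain ⟨t', ht', u', hu', rfl⟩ := R.mem_B.1 hb₁
  refine ⟨rep cs h w c₀, hc₀.act w, t' * u' * t'⁻¹, ?_, ?_⟩
  · exact (Subgroup.mem_normalizer_iff.1 (R.T_le_normalizer_U ht') u').1 hu'
  · have e : t' * u' * k * (t * u) = t' * u' * t'⁻¹ * (t' * (k * (t * u))) := by group
    rw [e, cj_mul, cj_mul t', cj_mul k, cj_mul t, cj_eq_of_cm hU hu, R.tor _ hc₀ t ht, R.conj_rp hk hc₀,
      R.tor _ (hc₀.act w) t' ht']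

include R hs hab in
theorem place_next {c₀ : I → ℤ} {Ψ : Set (I → ℤ)} {C : List (I → ℤ)} {c : I → ℤ} (P : Place X c₀ Ψ C)
    (L : Lev cs h Ψ c) : Place X c₀ (QZ cs h Ψ c) (c :: C) := by
  intro g hg
  obtain ⟨b, hb, l, hl, e⟩ := P g fun c' hc' => hg c' (List.mem_cons_of_mem _ hc')
  have h1 := hg c List.mem_cons_self
  rw [e] at h1
  obtain ⟨h2, l', hl', h3⟩ := step R hs hab L hb hl h1
  refine ⟨b, ⟨hb, h2⟩, l', hl', ?_⟩
  rw [e]
  ext x
  constructor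
  · intro hx
    rw [mem_cj] at hx
    have h4 := h3 _ hx
    have e1 : l * (l⁻¹ * x * l) * l⁻¹ = x := by group
    rw [e1] at h4
    rw [h4]; exact conj_mem_cj.2 hx
  · intro hx
    rw [mem_cj] at hx
    have h4 := h3 _ hx
    have e1 : l' * (l'⁻¹ * x * l') * l'⁻¹ = x := by group
    rw [e1] at h4
    rw [← h4]; exact conj_mem_cj.2 hx

omit [Finite W] in
/-- transitivity by raising the height -/
theorem trans_up (R : RGD cs h p T n X) [Finite W] {Ψ : Set (I → ℤ)} {c : I → ℤ} (hΨ : ∀ x ∈ Ψ, IsRoot cs h x)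
    (hcl : ∀ x ∈ Ψ, ∀ i, sr i ∈ Ψ → rep cs h (cs.simple i) x ∈ Ψ) (hneg : ∀ x ∈ Ψ, -x ∈ Ψ)
    (hup : ∀ b ∈ Ψ, b ≠ c → ∃ i, sr i ∈ Ψ ∧ pairing A i b < 0) {N : ℤ} (hN : ∀ b ∈ Ψ, ht b ≤ N) :
    ∀ b ∈ Ψ, ∃ y ∈ RGD.Sup X Ψ, cj y (X b) = X c := by
  have key : ∀ m : ℕ, ∀ b ∈ Ψ, (N - ht b).toNat = m → ∃ y ∈ RGD.Sup X Ψ, cj y (X b) = X c := by
    intro m
    induction m using Nat.strong_induction_on with
    | _ m ih =>
    intro b hb hm
    by_cases hbc : b = c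
    · exact ⟨1, one_mem _, by rw [cj_one, hbc]⟩
    obtain ⟨i, hi, hlt⟩ := hup b hb hbc
    obtain ⟨k, hk, hrp⟩ := exists_refl_simple R i
    have h1 := hcl b hb i hi
    have h2 : ht b < ht (rep cs h (cs.simple i) b) := by
      rw [rep_simple_eq]
      have h3 : b - pairing A i b • sr i = b + (-pairing A i b) • sr i := by rw [neg_smul, sub_eq_add_neg]
      rw [h3, RGD.ht_add, RGD.ht_smul]
      have h4 := RGD.ht_pos (isRoot_sr cs h i) (sr_nonneg i)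
      have h5 : 0 < -pairing A i b * ht (sr i : I → ℤ) := mul_pos (by omega) h4
      omega
    have h3 := hN _ h1
    have h4 := hN _ hb
    obtain ⟨y, hy, e⟩ := ih _ (by omega) _ h1 rfl
    refine ⟨y * k, mul_mem hy ?_, ?_⟩
    · have h5 : AA X (sr i) ≤ RGD.Sup X Ψ := sup_le (RGD.le_Sup hi) (RGD.le_Sup (hneg _ hi))
      exact h5 hk
    · rw [cj_mul, R.conj_rp hrp (hΨ b hb), e]
  exact fun b hb => key _ b hb rfl

include R hs hab in
/-- **Placing a fundamental subgroup.** -/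
theorem place {c₀ : I → ℤ} (hc₀ : IsRoot cs h c₀) {Ψ : Set (I → ℤ)} {C : List (I → ℤ)} {c : I → ℤ} (P : Place X c₀ Ψ C)
    (L : Lev cs h Ψ c) (hC : ∀ c' ∈ C, IsRoot cs h c' ∧ ∀ x ∈ Ψ, cpr cs h x c' = 0)
    (htr : ∀ b ∈ Ψ, ∃ y ∈ RGD.Sup X Ψ, cj y (X b) = X c) {g : Y} (hg : ∀ c' ∈ C, Cm (cj g (AA X c₀)) (AA X c')) :
    ∃ y ∈ RGD.Sup X Ψ, cj (y * g) (AA X c₀) = AA X c := by
  have hΨC : ∀ c' ∈ C, Cm (RGD.Sup X Ψ) (AA X c') := fun c' hc' => cm_Sup fun x hx =>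
    (cm_orth R hs (L.root x hx) (hC c' hc').1 ((hC c' hc').2 x hx)).mono (X_le_AA x) le_rfl
  obtain ⟨b, hb, l, hl, e⟩ := P g fun c' hc' => (hg c' hc').mono (Subgroup.map_mono (X_le_AA c₀)) le_rfl
  obtain ⟨y₀, hy₀, e₀⟩ := htr b hb
  have hlΨ : l ∈ RGD.Sup X Ψ := RGD.Sup_mono (fun x hx => hx.1) hl
  have e1 : cj (y₀ * l⁻¹ * g) (X c₀) = X c := by
    rw [cj_mul, cj_mul, e, cj_inv_cj, e₀]
  have hy1 : y₀ * l⁻¹ ∈ RGD.Sup X Ψ := mul_mem hy₀ (inv_mem hlΨ)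
  -- the opposite root group
  obtain ⟨k, hk, w, hkw, hw⟩ := exists_refl R hc₀
  have hwc : rep cs h w c₀ = -c₀ := by
    rw [hw, cpr_self cs h hc₀, two_smul]; abel
  have hkX : cj k (X c₀) = X (-c₀) := by rw [R.conj_rp hkw hc₀, hwc]
  obtain ⟨d, hd, l2, hl2, e2⟩ := P (y₀ * l⁻¹ * g * k) fun c' hc' => by
    have h1 := (hg c' hc').map (y₀ * l⁻¹)
    rw [cj_eq_of_cm (hΨC c' hc') hy1, ← cj_mul] at h1
    have h2 : cj (y₀ * l⁻¹ * g * k) (X c₀) = cj (y₀ * l⁻¹ * g) (X (-c₀)) := by rw [cj_mul, hkX]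
    rw [h2]
    exact h1.mono (Subgroup.map_mono (Xneg_le_AA c₀)) le_rfl
  rw [cj_mul, hkX] at e2
  have hU : Cm (RGD.Sup X (PP Ψ)) (X c) := cm_Sup fun x hx => cm_nonneg R hs hab (L.root x hx.1) L.rc (L.dom x hx.1 hx.2)
  have hl2Ψ : l2 ∈ RGD.Sup X Ψ := RGD.Sup_mono (fun x hx => hx.1) hl2
  have e3 : cj (l2⁻¹ * (y₀ * l⁻¹ * g)) (AA X c₀) = X c ⊔ X d := by
    rw [cj_mul]
    unfold AA
    rw [cj_sup, e1, e2, cj_sup, cj_inv_cj, cj_eq_of_cm hU (inv_mem hl2)]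
  have hdc : d = -c := by
    by_contra hne
    have h1 := isPGroup_pair R hs hab L.rc (L.root d hd) hne
    rw [← e3] at h1
    exact not_isPGroup_AA R hc₀ (h1.of_equiv ((AA X c₀).equivMapOfInjective _ (MulAut.conj _).injective).symm)
  refine ⟨l2⁻¹ * (y₀ * l⁻¹), mul_mem (inv_mem hl2Ψ) hy1, ?_⟩
  have e4 : l2⁻¹ * (y₀ * l⁻¹) * g = l2⁻¹ * (y₀ * l⁻¹ * g) := by group
  rw [e4, e3, hdc]
  rfl

end

end Cfsg.Agent.H351.KKL
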