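import Cfsg.Agent.H557.LrIso
import Cfsg.Agent.H557.LrMov

/-!
# S4546, E7 part 2 (helper351): long root subgroups commuting with fundamental subgroups

`R : RGD cs h p T n X`, simply laced.

* `exists_refl` : a representative of the reflection of `c` in `AA X c`;
* `Lev cs h Ψ c` : a closed symmetric set `Ψ` of roots on whose positive part `c ∈ Ψ` is dominant;
* `step` : `l (X b) l⁻¹`, `l ∈ U_Ψ`, `b ∈ Ψ`, commuting with `AA X c` is `l' (X b) l'⁻¹` with `l'` in `U_{Ψ ∩ c^⊥}`, and `b ⊥ c`;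
* `pair` : the same for the rank one groups.
-/

set_option autoImplicit false
set_option linter.unusedSectionVars false

namespace Cfsg.Agent.H351.KKL

open CoxeterSystem Cfsg.Agent.ChevalleyStructure.CoxeterGeom Cfsg.Agent.Tits.Roots Cfsg.Agent.Tits.Core
  Cfsg.Agent.Tits.RootComb Cfsg.Agent.Tits.Exchange Cfsg.Agent.Nodes.Reps Cfsg.Agent.Nodes.BNOf
  Cfsg.Agent.Nodes.StabComb Cfsg.Agent.Nodes.Bruhat Cfsg.Agent.Nodes.Coroot Cfsg.Agent.Nodes.OppDec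
  Cfsg.Agent.Nodes.RGDLib Cfsg.Agent.Nodes.PosPair Cfsg.Agent.Nodes.SubComb Cfsg.Agent.Nodes.Comb
  Cfsg.Agent.KFacts.RgdSL
open Cfsg.Agent.H557.LrTor (AA)
open Cfsg.Agent.H557.LrIso (AA_conj)
open Cfsg.Agent.H974.Exc (ra_comm)

section Cm

variable {Y : Type*} [Group Y]

/-- `A` and `B` commute elementwise -/
def Cm (A B : Subgroup Y) : Prop := A ≤ Subgroup.centralizer (B : Set Y)

theorem Cm.comm {A B : Subgroup Y} (h : Cm A B) {a b : Y} (ha : a ∈ A) (hb : b ∈ B) : a * b = b * a :=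
  (Subgroup.mem_centralizer_iff.1 (h ha) b hb).symm

theorem cm_iff {A B : Subgroup Y} : Cm A B ↔ ∀ a ∈ A, ∀ b ∈ B, a * b = b * a :=
  ⟨fun h _ ha _ hb => h.comm ha hb, fun h a ha => Subgroup.mem_centralizer_iff.2 fun b hb => (h a ha b hb).symm⟩

theorem Cm.symm {A B : Subgroup Y} (h : Cm A B) : Cm B A := Subgroup.le_centralizer_iff.1 h

theorem Cm.mono {A A' B B' : Subgroup Y} (h : Cm A B) (hA : A' ≤ A) (hB : B' ≤ B) : Cm A' B' :=
  cm_iff.2 fun _ ha _ hb => h.comm (hA ha) (hB hb)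

theorem Cm.sup_left {A A' B : Subgroup Y} (h : Cm A B) (h' : Cm A' B) : Cm (A ⊔ A') B := sup_le h h'

theorem Cm.sup_right {A B B' : Subgroup Y} (h : Cm A B) (h' : Cm A B') : Cm A (B ⊔ B') :=
  (Cm.sup_left h.symm h'.symm).symm

theorem Cm.map {A B : Subgroup Y} (h : Cm A B) (g : Y) : Cm (cj g A) (cj g B) := by
  refine cm_iff.2 fun a ha b hb => ?_
  rw [mem_cj] at ha hb
  have h1 := h.comm ha hb
  have h2 : a * b = g * (g⁻¹ * a * g * (g⁻¹ * b * g)) * g⁻¹ := by group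
  rw [h2, h1]; group

theorem Cm.conj_eq {A B : Subgroup Y} (h : Cm A B) {a b : Y} (ha : a ∈ A) (hb : b ∈ B) : a * b * a⁻¹ = b := by
  rw [h.comm ha hb, mul_inv_cancel_right]

theorem cj_eq_of_cm {A B : Subgroup Y} (h : Cm A B) {a : Y} (ha : a ∈ A) : cj a B = B := by
  ext x
  rw [mem_cj]
  constructor
  · intro hx
    have h1 := h.conj_eq ha hx
    have h2 : a * (a⁻¹ * x * a) * a⁻¹ = x := by group
    rw [h2] at h1
    rw [h1]; exact hx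
  · intro hx
    have h1 := h.conj_eq (inv_mem ha) hx
    rw [inv_inv] at h1
    rw [h1]; exact hx

end Cm

variable {I W Y : Type*} [Fintype I] [DecidableEq I] [Group W] [Group Y] {M : CoxeterMatrix I}
  {cs : CoxeterSystem M W} {A : I → I → ℤ} {h : IsCartan M A} {p : ℕ} {T : Subgroup Y} {n : I → Y}
  {X : (I → ℤ) → Subgroup Y}

theorem cm_Sup {S : Set (I → ℤ)} {B : Subgroup Y} (hS : ∀ x ∈ S, Cm (X x) B) : Cm (RGD.Sup X S) B :=
  RGD.Sup_le hS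

theorem X_le_AA (c : I → ℤ) : X c ≤ AA X c := le_sup_left

theorem Xneg_le_AA (c : I → ℤ) : X (-c) ≤ AA X c := le_sup_right

theorem AA_neg (c : I → ℤ) : AA X (-c) = AA X c := by
  unfold AA
  rw [neg_neg, sup_comm]

theorem exists_refl_simple [Finite W] (R : RGD cs h p T n X) (i : I) :
    ∃ k ∈ AA X (sr i), Rp cs R.nsys (cs.simple i) k := by
  obtain ⟨u, hu, hu1⟩ := exists_ne_one R i
  have h1 : n i * u * (n i)⁻¹ ∈ X (-sr i) := by
    have := R.conj_mem (rp_simple cs R.nsys i) (isRoot_sr cs h i) hu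
    rwa [rep_simple_sr] at this
  have h2 : n i * u * (n i)⁻¹ ≠ 1 := fun h3 => hu1 (mul_eq_left.1 (mul_inv_eq_one.1 h3))
  obtain ⟨a, ha, t, ht, b, hb, e⟩ := R.rk1 i _ h1 h2
  refine ⟨a⁻¹ * (n i * u * (n i)⁻¹) * b⁻¹, ?_, ?_⟩
  · exact mul_mem (mul_mem (inv_mem (X_le_AA _ ha)) (Xneg_le_AA _ h1)) (inv_mem (X_le_AA _ hb))
  · have h3 : a⁻¹ * (n i * u * (n i)⁻¹) * b⁻¹ = t * n i := by rw [e]; group
    rw [h3]
    have h4 := (rp_of_mem (cs := cs) (hN := R.nsys) ht).mul (rp_simple cs R.nsys i)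
    rwa [one_mul] at h4

/-- a representative of the reflection of `c` in `AA X c` -/
theorem exists_refl [Finite W] (R : RGD cs h p T n X) {c : I → ℤ} (hc : IsRoot cs h c) :
    ∃ k ∈ AA X c, ∃ w, Rp cs R.nsys w k ∧ ∀ x, rep cs h w x = x - cpr cs h x c • c := by
  obtain ⟨v, i, rfl⟩ := hc
  obtain ⟨g, hg⟩ := exists_rp cs R.nsys v
  obtain ⟨k, hk, hrp⟩ := exists_refl_simple R i
  refine ⟨g * k * g⁻¹, ?_, rfl' cs v i, ?_, fun x => rep_rfl'_eq cs h v i x⟩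
  · rw [AA_conj R hg (isRoot_sr cs h i)]
    exact ⟨k, hk, rfl⟩
  · exact (hg.mul hrp).mul hg.inv

/-- a closed symmetric set `Ψ` of roots on whose positive part `c ∈ Ψ` is dominant -/
structure Lev (cs : CoxeterSystem M W) (h : IsCartan M A) (Ψ : Set (I → ℤ)) (c : I → ℤ) : Prop where
  root : ∀ x ∈ Ψ, IsRoot cs h x
  neg : ∀ x ∈ Ψ, -x ∈ Ψ
  cl : ∀ x ∈ Ψ, ∀ y ∈ Ψ, ∀ z, Btwn cs h x y z → z ∈ Ψ
  mem : c ∈ Ψ
  dom : ∀ x ∈ Ψ, 0 ≤ x → 0 ≤ cpr cs h x c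

section Lev

variable [Finite W] {Ψ : Set (I → ℤ)} {c : I → ℤ}

theorem Lev.rc (L : Lev cs h Ψ c) : IsRoot cs h c := L.root c L.mem

theorem Lev.pos (L : Lev cs h Ψ c) {x : I → ℤ} (hx : x ∈ Ψ) (h0 : 0 < cpr cs h x c) : 0 ≤ x := by
  rcases (L.root x hx).pos_or_neg with h1 | h1
  · exact h1
  · exfalso
    have h2 := L.dom (-x) (L.neg x hx) (neg_nonneg.2 h1)
    rw [cpr_neg_left _ L.rc] at h2
    omega

theorem Lev.nonpos (L : Lev cs h Ψ c) {x : I → ℤ} (hx : x ∈ Ψ) (h0 : cpr cs h x c < 0) : x ≤ 0 := by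
  have h1 := L.pos (L.neg x hx) (by rw [cpr_neg_left _ L.rc]; omega)
  exact neg_nonneg.1 h1

theorem Lev.refl (L : Lev cs h Ψ c) {x : I → ℤ} (hx : x ∈ Ψ) : x - cpr cs h x c • c ∈ Ψ := by
  have hr := isRoot_refl cs h (L.root x hx) L.rc
  rcases lt_trichotomy (cpr cs h x c) 0 with h1 | h1 | h1
  · refine L.cl x hx c L.mem _ ⟨hr, 1, 1, -cpr cs h x c, one_pos, one_pos, by omega, ?_⟩
    rw [one_smul, one_smul, neg_smul, sub_eq_add_neg]
  · rwa [h1, zero_smul, sub_zero]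
  · refine L.cl x hx (-c) (L.neg c L.mem) _ ⟨hr, 1, 1, cpr cs h x c, one_pos, one_pos, h1, ?_⟩
    rw [one_smul, one_smul, smul_neg, sub_eq_add_neg]

theorem cpr_refl {x : I → ℤ} (hc : IsRoot cs h c) : cpr cs h (x - cpr cs h x c • c) c = -cpr cs h x c := by
  have h1 : x - cpr cs h x c • c = x + (-cpr cs h x c) • c := by rw [neg_smul, sub_eq_add_neg]
  rw [h1, cpr_add cs h _ _ hc, cpr_smul cs h _ _ hc, cpr_self cs h hc]
  ring

/-- the three parts of `Ψ` -/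
def QP (cs : CoxeterSystem M W) (h : IsCartan M A) (Ψ : Set (I → ℤ)) (c : I → ℤ) : Set (I → ℤ) :=
  {x | x ∈ Ψ ∧ 0 < cpr cs h x c}

def QN (cs : CoxeterSystem M W) (h : IsCartan M A) (Ψ : Set (I → ℤ)) (c : I → ℤ) : Set (I → ℤ) :=
  {x | x ∈ Ψ ∧ cpr cs h x c < 0}

def QZ (cs : CoxeterSystem M W) (h : IsCartan M A) (Ψ : Set (I → ℤ)) (c : I → ℤ) : Set (I → ℤ) :=
  {x | x ∈ Ψ ∧ cpr cs h x c = 0}

/-- the positive part -/
def PP (Ψ : Set (I → ℤ)) : Set (I → ℤ) := {x | x ∈ Ψ ∧ 0 ≤ x}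

theorem btwn_cpr {x y z : I → ℤ} (hc : IsRoot cs h c) (hz : Btwn cs h x y z) :
    ∃ m a b : ℤ, 0 < m ∧ 0 < a ∧ 0 < b ∧ m * cpr cs h z c = a * cpr cs h x c + b * cpr cs h y c := by
  obtain ⟨-, m, a, b, hm, ha, hb, e⟩ := hz
  refine ⟨m, a, b, hm, ha, hb, ?_⟩
  rw [← cpr_smul cs h _ _ hc, ← cpr_smul cs h _ _ hc, ← cpr_smul cs h _ _ hc, ← cpr_add cs h _ _ hc, e]

theorem qz_norm_QP (R : RGD cs h p T n X) (L : Lev cs h Ψ c) :
    RGD.Sup X (QZ cs h Ψ c) ≤ Subgroup.normalizer (RGD.Sup X (QP cs h Ψ c) : Set Y) := by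
  refine RGD.Sup_le fun x hx => R.le_normalizer (L.root x hx.1) fun y hy => ⟨L.root y hy.1, Or.inr ⟨?_, fun z hz => ?_⟩⟩
  · rintro rfl
    have h1 := hx.2
    rw [cpr_neg_left _ L.rc] at h1
    have := hy.2
    omega
  · refine ⟨L.cl x hx.1 y hy.1 z hz, ?_⟩
    obtain ⟨m, a, b, hm, ha, hb, e⟩ := btwn_cpr L.rc hz
    rw [hx.2, mul_zero, zero_add] at e
    have h1 := mul_pos hb hy.2
    rw [← e] at h1
    exact (pos_iff_pos_of_mul_pos h1).1 hm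

theorem qz_norm_QN (R : RGD cs h p T n X) (L : Lev cs h Ψ c) :
    RGD.Sup X (QZ cs h Ψ c) ≤ Subgroup.normalizer (RGD.Sup X (QN cs h Ψ c) : Set Y) := by
  refine RGD.Sup_le fun x hx => R.le_normalizer (L.root x hx.1) fun y hy => ⟨L.root y hy.1, Or.inr ⟨?_, fun z hz => ?_⟩⟩
  · rintro rfl
    have h1 := hx.2
    rw [cpr_neg_left _ L.rc] at h1
    have := hy.2
    omega
  · refine ⟨L.cl x hx.1 y hy.1 z hz, ?_⟩
    obtain ⟨m, a, b, hm, ha, hb, e⟩ := btwn_cpr L.rc hz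
    rw [hx.2, mul_zero, zero_add] at e
    have h1 := mul_pos hb (neg_pos.2 hy.2)
    have h2 : 0 < m * (-cpr cs h z c) := by rw [mul_neg, e]; linarith
    have := (pos_iff_pos_of_mul_pos h2).1 hm
    omega

theorem QP_le_U (L : Lev cs h Ψ c) : RGD.Sup X (QP cs h Ψ c) ≤ RGD.Sup X (RGD.Pos cs h) :=
  RGD.Sup_mono fun x hx => ⟨L.root x hx.1, L.pos hx.1 hx.2⟩

theorem QN_le_UN (L : Lev cs h Ψ c) : RGD.Sup X (QN cs h Ψ c) ≤ UN cs h X :=
  RGD.Sup_mono fun x hx => ⟨L.root x hx.1, L.nonpos hx.1 hx.2⟩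

theorem eq_one (R : RGD cs h p T n X) (L : Lev cs h Ψ c) {x : Y} (h1 : x ∈ RGD.Sup X (QP cs h Ψ c))
    (h2 : x ∈ RGD.Sup X (QN cs h Ψ c)) : x = 1 := by
  have h3 : x ∈ RGD.Sup X (RGD.Pos cs h) ⊓ UN cs h X := ⟨QP_le_U L h1, QN_le_UN L h2⟩
  rwa [U_inf_UN R, Subgroup.mem_bot] at h3

theorem pos_cases (L : Lev cs h Ψ c) {x : I → ℤ} (hx : x ∈ PP Ψ) : x ∈ QP cs h Ψ c ∨ x ∈ PP (QZ cs h Ψ c) := by
  rcases (L.dom x hx.1 hx.2).lt_or_eq with h1 | h1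
  · exact Or.inl ⟨hx.1, h1⟩
  · exact Or.inr ⟨⟨hx.1, h1.symm⟩, hx.2⟩

theorem decomp (R : RGD cs h p T n X) (L : Lev cs h Ψ c) {l : Y} (hl : l ∈ RGD.Sup X (PP Ψ)) :
    ∃ q ∈ RGD.Sup X (QP cs h Ψ c), ∃ u ∈ RGD.Sup X (PP (QZ cs h Ψ c)), l = q * u := by
  have h1 : l ∈ ((RGD.Sup X (QP cs h Ψ c) ⊔ RGD.Sup X (PP (QZ cs h Ψ c)) : Subgroup Y) : Set Y) := by
    refine (?_ : RGD.Sup X (PP Ψ) ≤ _) hl
    refine RGD.Sup_le fun z hz => ?_
    rcases pos_cases L hz with h1 | h1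
    · exact le_trans (RGD.le_Sup h1) le_sup_left
    · exact le_trans (RGD.le_Sup h1) le_sup_right
  have h2 : RGD.Sup X (PP (QZ cs h Ψ c)) ≤ Subgroup.normalizer (RGD.Sup X (QP cs h Ψ c) : Set Y) :=
    le_trans (RGD.Sup_mono fun x hx => hx.1) (qz_norm_QP R L)
  rw [Subgroup.coe_mul_of_right_le_normalizer_left _ _ h2, Set.mem_mul] at h1
  obtain ⟨r, hr, u, hu, e⟩ := h1
  exact ⟨r, hr, u, hu, e.symm⟩

section Step

variable (R : RGD cs h p T n X) (hs : SL cs h) (hab : ∀ x, IsRoot cs h x → Cm (X x) (X x))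

include R hs hab in
theorem cm_nonneg {x : I → ℤ} (hx : IsRoot cs h x) (hc : IsRoot cs h c) (h0 : 0 ≤ cpr cs h x c) :
    Cm (X x) (X c) := by
  by_cases hxc : x = c
  · rw [hxc]; exact hab c hc
  · exact cm_iff.2 fun u hu v hv => Cfsg.Agent.H557.LrMov.cm R hs hx hc hxc h0 u hu v hv

include R hs in
theorem cm_orth {x : I → ℤ} (hx : IsRoot cs h x) (hc : IsRoot cs h c) (h0 : cpr cs h x c = 0) :
    Cm (AA X x) (AA X c) :=
  cm_iff.2 fun u hu v hv => ra_comm R hs hx hc h0 u hu v hv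

include R hs in
theorem cm_QZ (L : Lev cs h Ψ c) : Cm (RGD.Sup X (QZ cs h Ψ c)) (AA X c) :=
  cm_Sup fun x hx => (cm_orth R hs (L.root x hx.1) L.rc hx.2).mono (X_le_AA x) le_rfl

include R hs hab in
/-- **The step.** -/
theorem step (L : Lev cs h Ψ c) {b : I → ℤ} (hb : b ∈ Ψ) {l : Y} (hl : l ∈ RGD.Sup X (PP Ψ))
    (hA : Cm (cj l (X b)) (AA X c)) :
    cpr cs h b c = 0 ∧ ∃ l' ∈ RGD.Sup X (PP (QZ cs h Ψ c)), ∀ x ∈ X b, l * x * l⁻¹ = l' * x * l'⁻¹ := by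
  have hc := L.rc
  obtain ⟨k, hk, w, hkw, hw⟩ := exists_refl R hc
  have hU : Cm (RGD.Sup X (PP Ψ)) (X c) := cm_Sup fun x hx => cm_nonneg R hs hab (L.root x hx.1) hc (L.dom x hx.1 hx.2)
  have hPN : ∀ y ∈ RGD.Sup X (QP cs h Ψ c), k * y * k⁻¹ ∈ RGD.Sup X (QN cs h Ψ c) := by
    intro y hy
    refine conj_mem_Sup R hkw (fun x hx => L.root x hx.1) (fun x hx => ?_) hy
    rw [hw]
    exact ⟨L.refl hx.1, by rw [cpr_refl hc]; have := hx.2; omega⟩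
  have hNP : ∀ y ∈ RGD.Sup X (QN cs h Ψ c), k * y * k⁻¹ ∈ RGD.Sup X (QP cs h Ψ c) := by
    intro y hy
    refine conj_mem_Sup R hkw (fun x hx => L.root x hx.1) (fun x hx => ?_) hy
    rw [hw]
    exact ⟨L.refl hx.1, by rw [cpr_refl hc]; have := hx.2; omega⟩
  have hAk : ∀ x ∈ X b, k * (l * x * l⁻¹) * k⁻¹ = l * x * l⁻¹ := fun x hx =>
    hA.symm.conj_eq hk (conj_mem_cj.2 hx)
  rcases lt_trichotomy (cpr cs h b c) 0 with h1 | h1 | h1
  · exfalso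
    have hbc : Cm (X b) (X c) := cm_iff.2 fun x hx y hy => by
      have h2 := hA.comm (conj_mem_cj.2 hx) (X_le_AA c hy)
      have h3 := hU.conj_eq hl hy
      have h4 : l * (x * y) * l⁻¹ = l * (y * x) * l⁻¹ := by
        calc l * (x * y) * l⁻¹ = l * x * l⁻¹ * (l * y * l⁻¹) := by group
          _ = l * y * l⁻¹ * (l * x * l⁻¹) := by rw [h3, h2]
          _ = l * (y * x) * l⁻¹ := by group
      exact mul_left_cancel (mul_right_cancel h4)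
    have hbc' : Cm (X b) (X (-c)) := cm_nonneg R hs hab (L.root b hb) hc.neg (by
      rw [cpr_neg_right cs h _ hc]; omega)
    have hbk : Cm (X b) (AA X c) := hbc.sup_right hbc'
    apply X_ne_bot R (L.root b hb)
    rw [Subgroup.eq_bot_iff_forall]
    intro x hx
    have hxN : x ∈ RGD.Sup X (QN cs h Ψ c) := RGD.le_Sup (S := QN cs h Ψ c) ⟨hb, h1⟩ hx
    have h4 := hNP x hxN
    rw [hbk.symm.conj_eq hk hx] at h4
    exact eq_one R L h4 hxN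
  · obtain ⟨q, hq, u, hu, rfl⟩ := decomp R L hl
    refine ⟨h1, u, hu, fun x hx => ?_⟩
    have hu' : u ∈ RGD.Sup X (QZ cs h Ψ c) := RGD.Sup_mono (fun x hx => hx.1) hu
    have hx' : x ∈ RGD.Sup X (QZ cs h Ψ c) := RGD.le_Sup (S := QZ cs h Ψ c) ⟨hb, h1⟩ hx
    obtain ⟨y, hy⟩ : ∃ y, y = u * x * u⁻¹ := ⟨_, rfl⟩
    have hyZ : y ∈ RGD.Sup X (QZ cs h Ψ c) := by
      rw [hy]; exact mul_mem (mul_mem hu' hx') (inv_mem hu')
    have hky : k * y * k⁻¹ = y := (cm_QZ R hs L).symm.conj_eq hk hyZ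
    have h2 := hAk x hx
    have e1 : q * u * x * (q * u)⁻¹ = q * y * q⁻¹ := by rw [hy]; group
    rw [e1] at h2 ⊢
    obtain ⟨r, hr⟩ : ∃ r, r = k * q * k⁻¹ := ⟨_, rfl⟩
    have hrN : r ∈ RGD.Sup X (QN cs h Ψ c) := by rw [hr]; exact hPN q hq
    have h3 : r * y * r⁻¹ = q * y * q⁻¹ := by
      rw [← h2, hr]
      have : k * (q * y * q⁻¹) * k⁻¹ = k * q * k⁻¹ * (k * y * k⁻¹) * (k * q * k⁻¹)⁻¹ := by group
      rw [this, hky]
    have hn1 := (Subgroup.mem_normalizer_iff.1 (qz_norm_QP R L hyZ) q⁻¹).1 (inv_mem hq)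
    have hn2 := (Subgroup.mem_normalizer_iff.1 (qz_norm_QN R L hyZ) r⁻¹).1 (inv_mem hrN)
    have h4 : q * (y * q⁻¹ * y⁻¹) = r * (y * r⁻¹ * y⁻¹) := by
      have h5 : q * (y * q⁻¹ * y⁻¹) = q * y * q⁻¹ * y⁻¹ := by group
      have h6 : r * (y * r⁻¹ * y⁻¹) = r * y * r⁻¹ * y⁻¹ := by group
      rw [h5, h6, h3]
    have h5 : q * (y * q⁻¹ * y⁻¹) = 1 := by
      refine eq_one R L (mul_mem hq hn1) ?_
      rw [h4]
      exact mul_mem hrN hn2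
    have h6 : q * y * q⁻¹ * y⁻¹ = 1 := by rw [← h5]; group
    rw [mul_inv_eq_one.1 h6, hy]
  · exfalso
    have hlP : l ∈ Subgroup.normalizer (RGD.Sup X (QP cs h Ψ c) : Set Y) := by
      obtain ⟨q, hq, u, hu, rfl⟩ := decomp R L hl
      exact mul_mem (Subgroup.le_normalizer hq) (qz_norm_QP R L (RGD.Sup_mono (fun x hx => hx.1) hu))
    apply X_ne_bot R (L.root b hb)
    rw [Subgroup.eq_bot_iff_forall]
    intro x hx
    have hxP : x ∈ RGD.Sup X (QP cs h Ψ c) := RGD.le_Sup (S := QP cs h Ψ c) ⟨hb, h1⟩ hx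
    have hyP := (Subgroup.mem_normalizer_iff.1 hlP x).1 hxP
    have h4 := hPN _ hyP
    rw [hAk x hx] at h4
    have h5 := eq_one R L hyP h4
    have h6 : x = l⁻¹ * (l * x * l⁻¹) * l := by group
    rw [h6, h5]; group

end Step

end Lev

end Cfsg.Agent.H351.KKL
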