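import Cfsg.Agent.H351.KKL.E7Place

/-!
# S4546, E7 part 2 (helper351): three commuting fundamental subgroups, abstract form

`toral_abs`.
-/

set_option autoImplicit false
set_option linter.unusedSectionVars false

namespace Cfsg.Agent.H351.KKL

open CoxeterSystem Cfsg.Agent.ChevalleyStructure.CoxeterGeom Cfsg.Agent.Tits.Roots Cfsg.Agent.Tits.Core
  Cfsg.Agent.Tits.RootComb Cfsg.Agent.Tits.Exchange Cfsg.Agent.Nodes.Reps Cfsg.Agent.Nodes.BNOf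
  Cfsg.Agent.Nodes.StabComb Cfsg.Agent.Nodes.Bruhat Cfsg.Agent.Nodes.Coroot Cfsg.Agent.Nodes.OppDec
  Cfsg.Agent.Nodes.RGDLib Cfsg.Agent.Nodes.PosPair Cfsg.Agent.Nodes.SubComb Cfsg.Agent.Nodes.Comb
  Cfsg.Agent.KFacts.RgdSL
open Cfsg.Agent.H557.LrTor (AA)

theorem exists_not_mem {Y : Type*} [Group Y] (D : Subgroup Y) (F : Finset Y) (hF : F.card < Nat.card D) :
    ∃ d ∈ D, d ∉ F := by
  by_contra hcon
  push Not at hcon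
  have h1 : (D : Set Y) ⊆ (F : Set Y) := fun d hd => hcon d hd
  have h2 := Set.ncard_le_ncard h1 F.finite_toSet
  rw [Set.ncard_coe_finset] at h2
  have h3 : (D : Set Y).ncard = Nat.card D := rfl
  omega

variable {I W Y : Type*} [Fintype I] [DecidableEq I] [Group W] [Group Y] {M : CoxeterMatrix I}
  {cs : CoxeterSystem M W} {A : I → I → ℤ} {h : IsCartan M A} {p : ℕ} {T : Subgroup Y} {n : I → Y}
  {X : (I → ℤ) → Subgroup Y}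

theorem commute_of_cm {A : Subgroup Y} {S : Subgroup Y} (h : Cm S A) {y t : Y} (hy : y ∈ S) (ht : t ∈ A) :
    y * t * y⁻¹ = t := h.conj_eq hy ht

/-- **three commuting fundamental subgroups** -/
theorem toral_abs [Finite W] (R : RGD cs h p T n X) (hs : SL cs h) (hab : ∀ x, IsRoot cs h x → Cm (X x) (X x))
    (hG : GG cs h T X = ⊤) {c₀ c₁ c₂ e : I → ℤ} {Ψ₁ Ψ₂ Ψ₃ : Set (I → ℤ)}
    (L₀ : Lev cs h {x | IsRoot cs h x} c₀) (e₁ : Ψ₁ = QZ cs h {x | IsRoot cs h x} c₀)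
    (L₁ : Lev cs h Ψ₁ c₁) (e₂ : Ψ₂ = QZ cs h Ψ₁ c₁) (L₂ : Lev cs h Ψ₂ e) (e₃ : Ψ₃ = QZ cs h Ψ₂ e) (L₃ : Lev cs h Ψ₃ c₂)
    (tr₁ : ∀ b ∈ Ψ₁, ∃ y ∈ RGD.Sup X Ψ₁, cj y (X b) = X c₁) (tr₃ : ∀ b ∈ Ψ₃, ∃ y ∈ RGD.Sup X Ψ₃, cj y (X b) = X c₂)
    {t₀ : Y} (hmem : t₀ ∈ AA X c₀) (hnorm : ∀ m : Y, m * t₀ = t₀ * m ↔ cj m (AA X c₀) = AA X c₀)
    {z₁ ze z₂ : Y} (hz₁ : cj z₁ (AA X c₀) = AA X c₁) (hze : cj ze (AA X c₀) = AA X e)
    (hz₂ : cj z₂ (AA X c₀) = AA X c₂) (hrel : t₀ * (z₁ * t₀ * z₁⁻¹) = ze * t₀ * ze⁻¹)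
    {D : Subgroup Y} (hcard : Nat.card D = 8) (hinv : ∀ d ∈ D, d * d = 1)
    (hcl : ∀ t ∈ D, t ≠ 1 → ∃ g, g * t₀ * g⁻¹ = t)
    (hcm : ∀ g g' : Y, g * t₀ * g⁻¹ ∈ D → g' * t₀ * g'⁻¹ ∈ D → g * t₀ * g⁻¹ ≠ g' * t₀ * g'⁻¹ →
      Cm (cj g (AA X c₀)) (cj g' (AA X c₀))) :
    ∃ y : Y, y⁻¹ * t₀ * y ∈ D ∧ y⁻¹ * (z₁ * t₀ * z₁⁻¹) * y ∈ D ∧ y⁻¹ * (z₂ * t₀ * z₂⁻¹) * y ∈ D := by
  classical
  have P₀ := place_start R hs hab hG L₀.rc L₀.dom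
  have P₁ := place_next R hs hab P₀ L₀
  rw [← e₁] at P₁
  have P₂ := place_next R hs hab P₁ L₁
  rw [← e₂] at P₂
  have P₃ := place_next R hs hab P₂ L₂
  rw [← e₃] at P₃
  have hC₁ : ∀ c' ∈ [c₀], IsRoot cs h c' ∧ ∀ x ∈ Ψ₁, cpr cs h x c' = 0 := by
    intro c' hc'
    rw [List.mem_singleton] at hc'
    subst hc'
    refine ⟨L₀.rc, fun x hx => ?_⟩
    rw [e₁] at hx
    exact hx.2
  have hsub : ∀ x ∈ Ψ₃, x ∈ Ψ₂ ∧ x ∈ Ψ₁ := by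
    intro x hx
    rw [e₃] at hx
    have h1 := hx.1
    rw [e₂] at h1
    exact ⟨hx.1, h1.1⟩
  have hC₃ : ∀ c' ∈ [e, c₁, c₀], IsRoot cs h c' ∧ ∀ x ∈ Ψ₃, cpr cs h x c' = 0 := by
    intro c' hc'
    simp only [List.mem_cons, List.not_mem_nil, or_false] at hc'
    rcases hc' with rfl | rfl | rfl
    · refine ⟨L₂.rc, fun x hx => ?_⟩
      rw [e₃] at hx
      exact hx.2
    · refine ⟨L₁.rc, fun x hx => ?_⟩
      have h1 := (hsub x hx).1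
      rw [e₂] at h1
      exact h1.2
    · refine ⟨L₀.rc, fun x hx => ?_⟩
      have h1 := (hsub x hx).2
      rw [e₁] at h1
      exact h1.2
  -- the elements of `D`
  obtain ⟨t1, ht1, ht1'⟩ := exists_not_mem D {1} (by rw [hcard, Finset.card_singleton]; norm_num)
  rw [Finset.mem_singleton] at ht1'
  obtain ⟨t2, ht2, ht2'⟩ := exists_not_mem D {1, t1} (by
    rw [hcard]; exact lt_of_le_of_lt Finset.card_le_two (by norm_num))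
  simp only [Finset.mem_insert, Finset.mem_singleton, not_or] at ht2'
  obtain ⟨t3, ht3, ht3'⟩ := exists_not_mem D {1, t1, t2, t1 * t2} (by
    rw [hcard]; exact lt_of_le_of_lt Finset.card_le_four (by norm_num))
  simp only [Finset.mem_insert, Finset.mem_singleton, not_or] at ht3'
  have ht12 : t1 * t2 ∈ D := mul_mem ht1 ht2
  have ht12' : t1 * t2 ≠ 1 := by
    intro h1
    apply ht2'.2
    have h2 := hinv t1 ht1
    exact mul_left_cancel (h1.trans h2.symm)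
  obtain ⟨g1, hg1⟩ := hcl t1 ht1 ht1'
  obtain ⟨g2, hg2⟩ := hcl t2 ht2 ht2'.1
  obtain ⟨g3, hg3⟩ := hcl t3 ht3 ht3'.1
  obtain ⟨g12, hg12⟩ := hcl _ ht12 ht12'
  -- uniqueness
  have hdet : ∀ {y g z : Y}, cj (y * g) (AA X c₀) = cj z (AA X c₀) → y * (g * t₀ * g⁻¹) * y⁻¹ = z * t₀ * z⁻¹ := by
    intro y g z h1
    have h2 : cj (z⁻¹ * (y * g)) (AA X c₀) = AA X c₀ := by rw [cj_mul, h1, cj_inv_cj]
    have h3 := (hnorm _).2 h2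
    calc y * (g * t₀ * g⁻¹) * y⁻¹ = z * (z⁻¹ * (y * g) * t₀) * (z⁻¹ * (y * g))⁻¹ * z⁻¹ := by group
      _ = z * t₀ * z⁻¹ := by rw [h3]; group
  have hdet' : ∀ {y g z : Y}, y * (g * t₀ * g⁻¹) * y⁻¹ = z * t₀ * z⁻¹ → cj (y * g) (AA X c₀) = cj z (AA X c₀) := by
    intro y g z h1
    have h2 : z⁻¹ * (y * g) * t₀ = t₀ * (z⁻¹ * (y * g)) := by
      calc z⁻¹ * (y * g) * t₀ = z⁻¹ * (y * (g * t₀ * g⁻¹) * y⁻¹) * (y * g) := by group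
        _ = t₀ * (z⁻¹ * (y * g)) := by rw [h1]; group
    have h3 := (hnorm _).1 h2
    have h4 : cj z (cj (z⁻¹ * (y * g)) (AA X c₀)) = cj z (AA X c₀) := by rw [h3]
    rwa [← cj_mul, mul_inv_cancel_left] at h4
  -- second group
  have cm12 : Cm (cj (g1⁻¹ * g2) (AA X c₀)) (AA X c₀) := by
    have h1 := hcm g2 g1 (by rw [hg2]; exact ht2) (by rw [hg1]; exact ht1) (by rw [hg2, hg1]; exact ht2'.2)
    have h2 := h1.map g1⁻¹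
    rwa [← cj_mul, cj_inv_cj] at h2
  obtain ⟨y2, hy2, ey2⟩ := place R hs hab L₀.rc P₁ L₁ hC₁ tr₁ (g := g1⁻¹ * g2) (fun c' hc' => by
    rw [List.mem_singleton] at hc'
    subst hc'
    exact cm12)
  have hy2c : Cm (RGD.Sup X Ψ₁) (AA X c₀) := cm_Sup fun x hx =>
    (cm_orth R hs (L₁.root x hx) L₀.rc ((hC₁ c₀ List.mem_cons_self).2 x hx)).mono (X_le_AA x) le_rfl
  obtain ⟨y, hy⟩ : ∃ y, y = y2 * g1⁻¹ := ⟨_, rfl⟩
  have ey2' : cj (y * g2) (AA X c₀) = AA X c₁ := by rw [hy, mul_assoc]; exact ey2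
  have f1 : y * t1 * y⁻¹ = t₀ := by
    rw [hy, ← hg1]
    have h1 := commute_of_cm hy2c hy2 hmem
    calc y2 * g1⁻¹ * (g1 * t₀ * g1⁻¹) * (y2 * g1⁻¹)⁻¹ = y2 * t₀ * y2⁻¹ := by group
      _ = t₀ := h1
  have f2 : y * t2 * y⁻¹ = z₁ * t₀ * z₁⁻¹ := by
    rw [← hg2]
    exact hdet (ey2'.trans hz₁.symm)
  have f12 : y * (t1 * t2) * y⁻¹ = ze * t₀ * ze⁻¹ := by
    calc y * (t1 * t2) * y⁻¹ = (y * t1 * y⁻¹) * (y * t2 * y⁻¹) := by group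
      _ = ze * t₀ * ze⁻¹ := by rw [f1, f2, hrel]
  have e12 : cj (y * g12) (AA X c₀) = AA X e := by
    rw [← hze]
    apply hdet'
    rw [hg12]
    exact f12
  have e1 : cj (y * g1) (AA X c₀) = AA X c₀ := by
    have h1 := cj_eq_of_cm hy2c hy2
    rw [hy]
    rwa [inv_mul_cancel_right]
  -- the third group
  have cmk : ∀ {g : Y}, g * t₀ * g⁻¹ ∈ D → t3 ≠ g * t₀ * g⁻¹ → Cm (cj (y * g3) (AA X c₀)) (cj (y * g) (AA X c₀)) := by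
    intro g hgD hne
    have h1 := hcm g3 g (by rw [hg3]; exact ht3) hgD (by rw [hg3]; exact hne)
    have h2 := h1.map y
    rwa [← cj_mul, ← cj_mul] at h2
  obtain ⟨y3, hy3, ey3⟩ := place R hs hab L₀.rc P₃ L₃ hC₃ tr₃ (g := y * g3) (fun c' hc' => by
    simp only [List.mem_cons, List.not_mem_nil, or_false] at hc'
    rcases hc' with rfl | rfl | rfl
    · rw [← e12]
      exact cmk (by rw [hg12]; exact ht12) (by rw [hg12]; exact ht3'.2.2.2)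
    · rw [← ey2']
      exact cmk (by rw [hg2]; exact ht2) (by rw [hg2]; exact ht3'.2.2.1)
    · have h1 := cmk (g := g1) (by rw [hg1]; exact ht1) (by rw [hg1]; exact ht3'.2.1)
      rwa [e1] at h1)
  have hy3c : ∀ c' ∈ [e, c₁, c₀], Cm (RGD.Sup X Ψ₃) (AA X c') := fun c' hc' => cm_Sup fun x hx =>
    (cm_orth R hs (L₃.root x hx) (hC₃ c' hc').1 ((hC₃ c' hc').2 x hx)).mono (X_le_AA x) le_rfl
  have hmem1 : z₁ * t₀ * z₁⁻¹ ∈ AA X c₁ := by rw [← hz₁]; exact conj_mem_cj.2 hmem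
  have k1 : (y3 * y) * t1 * (y3 * y)⁻¹ = t₀ := by
    have h1 := commute_of_cm (hy3c c₀ (by simp)) hy3 hmem
    calc (y3 * y) * t1 * (y3 * y)⁻¹ = y3 * (y * t1 * y⁻¹) * y3⁻¹ := by group
      _ = t₀ := by rw [f1, h1]
  have k2 : (y3 * y) * t2 * (y3 * y)⁻¹ = z₁ * t₀ * z₁⁻¹ := by
    have h1 := commute_of_cm (hy3c c₁ (by simp)) hy3 hmem1
    calc (y3 * y) * t2 * (y3 * y)⁻¹ = y3 * (y * t2 * y⁻¹) * y3⁻¹ := by group
      _ = z₁ * t₀ * z₁⁻¹ := by rw [f2, h1]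
  have k3 : (y3 * y) * t3 * (y3 * y)⁻¹ = z₂ * t₀ * z₂⁻¹ := by
    rw [← hg3]
    refine hdet ?_
    rw [hz₂, mul_assoc]
    exact ey3
  refine ⟨y3 * y, ?_, ?_, ?_⟩
  · rw [← k1]
    have : (y3 * y)⁻¹ * ((y3 * y) * t1 * (y3 * y)⁻¹) * (y3 * y) = t1 := by group
    rw [this]; exact ht1
  · rw [← k2]
    have : (y3 * y)⁻¹ * ((y3 * y) * t2 * (y3 * y)⁻¹) * (y3 * y) = t2 := by group
    rw [this]; exact ht2
  · rw [← k3]
    have : (y3 * y)⁻¹ * ((y3 * y) * t3 * (y3 * y)⁻¹) * (y3 * y) = t3 := by group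
    rw [this]; exact ht3

end Cfsg.Agent.H351.KKL
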